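import Cfsg.Agent.Lib.H33.Sy

/-! The configuration `S = ⟨t⟩ × D⟨f⟩` and fusion in `C(t)` (helper5).
Codes: `a = 1, r = 2, c = 4, t = 8, f = 16, z = 32`, `s = r c = 6`. -/

set_option autoImplicit false

namespace Cfsg.Lib.H33

open Cfsg.Lib.Calc Cfsg.Lib.Transfer Subgroup

def DS (e : Bool) : Dat :=
  [(2, [19, 2, 4, cond e 24 8, 16]), (0, [9, 2, 4, 8]), (4, [1, 2, 4]), (0, [1, 2]), (0, [1]), (0, [])]

structure Cfg0 (G : Type*) [Group G] (e : Bool) where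
  gs : List G
  pg : PG gs (DS e) 64
  into : ∀ P : Subgroup G, IsPGroup 2 P → (∀ y ∈ P, cg (el gs 8) y = el gs 8) →
    ∃ x, Mp pg pg x 8 8 ∧ ∀ y ∈ P, cg y x ∈ gen gs
  fus : ∀ {w x y}, Mp pg pg w 8 8 → Mp pg pg w x y → x / 8 % 4 = y / 8 % 4
  rho : ∃ ρ, Mp pg pg ρ 8 8 ∧ Mp pg pg ρ 16 16 ∧ Mp pg pg ρ 32 2 ∧ Mp pg pg ρ 2 34
  sig : e = true → ∃ σ, Mp pg pg σ 8 8 ∧ Mp pg pg σ 20 20 ∧ Mp pg pg σ 4 3 ∧ Mp pg pg σ 3 (mul (DS e) 4 3)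
  cen : e = false → ∀ x, Mp pg pg x 16 16
  chi : e = false → ∃ K : Subgroup G, (∀ x y, cm x y ∈ K) ∧ (∀ x, x * x ∈ K) ∧ (∀ x, el gs x ∈ K ↔ x / 16 % 2 = 0) ∧
    ∀ x, x ∈ K ∨ x * el gs 16 ∈ K
  ntz : ¬ IsConj (el gs 8) (el gs 32)
  sig0 : ∃ σ, Mp pg pg σ 8 8 ∧ Mp pg pg σ 4 3 ∧ Mp pg pg σ 3 (mul (DS e) 4 3)

namespace Cfg0

variable {G : Type*} [Group G] [Finite G] {e : Bool} (C : Cfg0 G e)

set_option hygiene false in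
local notation "𝔰" => el (Cfg0.gs C)
set_option hygiene false in
local notation "𝔪" => Mp (Cfg0.pg C) (Cfg0.pg C)
set_option quotPrecheck false in
local notation "dk" => by clear_aux_decl; clear * -; decide +kernel +revert

theorem okA : msOK (DS e) 64 58 := dk
theorem okT : msOK (DS e) 64 62 := dk

theorem card_le {P : Subgroup G} (hP : IsPGroup 2 P) (a : ∀ y ∈ P, cg (𝔰 8) y = 𝔰 8) : Nat.card P ≤ 64 := by
  obtain ⟨x, -, b⟩ := C.into P hP a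
  rw [← C.pg.card]
  exact Nat.card_le_card_of_injective (fun y : P => (⟨cg y x, b y y.2⟩ : gen C.gs))
    fun y u h => Subtype.ext (cg_inj.1 (congrArg Subtype.val h))

theorem mem64 {P S : Subgroup G} (hP : IsPGroup 2 P) (a : S ≤ P) (b : Nat.card S = 64) (c : ∀ y ∈ S, cg (𝔰 8) y = 𝔰 8)
    {y : G} (d : y ∈ P) (f : cg (𝔰 8) y = 𝔰 8) : y ∈ S := by
  have l : S ≤ P ⊓ centralizer {𝔰 8} := fun y h => ⟨a h, mem_cent.2 (c y h)⟩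
  rw [Subgroup.eq_of_le_of_card_ge l (b ▸ C.card_le (hP.to_le inf_le_left) fun y h => mem_cent.1 h.2)]
  exact ⟨d, mem_cent.2 f⟩

theorem fixt {y : G} (h : y ∈ gen C.gs) : 𝔪 y 8 8 := by
  obtain ⟨y, a, rfl⟩ := C.pg.ex h
  exact .sf _ _ _ _ (by clear_aux_decl; clear * - a; decide +kernel +revert)

theorem memS {P : Subgroup G} (hP : IsPGroup 2 P) (a : gen C.gs ≤ P) {y : G} (d : y ∈ P) (f : 𝔪 y 8 8) : y ∈ gen C.gs :=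
  C.mem64 hP a C.pg.card (fun _ => C.fixt) d f

theorem nmA {w : G} {a b c d : ℕ} (h1 : 𝔪 w 2 a) (h2 : 𝔪 w 8 b) (h3 : 𝔪 w 16 c) (h4 : 𝔪 w 32 d)
    (h : IM 58 a ∧ IM 58 b ∧ IM 58 c ∧ IM 58 d := by decide) : w ∈ normalizer (MS C.gs 58 : Set G) :=
  C.pg.nm_ms fun i p q => by
    obtain rfl | rfl | rfl | rfl : i = 1 ∨ i = 3 ∨ i = 4 ∨ i = 5 := by clear_aux_decl; clear * - p q; decide +kernel +revert
    exacts [h1.mem h.1, h2.mem h.2.1, h3.mem h.2.2.1, h4.mem h.2.2.2]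

theorem pA : IsPGroup 2 (MS C.gs 58) := C.pg.pgroup.to_le (ms_le _ _)

/-- Making an element normalising `E` trivial on `E`. -/
theorem normE {w : G} {x y : ℕ} (h1 : 𝔪 w 32 x) (h2 : 𝔪 w 2 y) (hx : x < 64) (hy : y < 64) (a : IM 34 x) (b : IM 34 y) :
    ∃ v, 𝔪 v 8 8 ∧ 𝔪 v 16 16 ∧ v ∈ normalizer (MS C.gs 58 : Set G) ∧ 𝔪 (w * v) 32 32 ∧ 𝔪 (w * v) 2 2 := by
  obtain ⟨ρ, r1, r2, r3, r4⟩ := C.rho
  have r5 : 𝔪 ρ 34 32 := (r3.mul r4).cast _ _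
  have rn := C.nmA r4 r1 r2 r3
  have k : ∀ {w : G} {y : ℕ}, 𝔪 w 32 32 → 𝔪 w 2 y → y = 2 ∨ y = 34 → ∃ v, 𝔪 v 8 8 ∧ 𝔪 v 16 16 ∧
      v ∈ normalizer (MS C.gs 58 : Set G) ∧ 𝔪 (w * v) 32 32 ∧ 𝔪 (w * v) 2 2 := by
    rintro w y h1 h2 (rfl | rfl)
    · exact ⟨𝔰 0, .sf _ _ _ _, .sf _ _ _ _, C.pg.nm_el dk, (h1.tr 0).r _, (h2.tr 0).r _⟩
    · exact ⟨𝔰 6, .sf _ _ _ _, .sf _ _ _ _, C.pg.nm_el dk, (h1.tr 6).r _, (h2.tr 6).r _⟩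
  have n1 := h1.ne .zero
  have n2 := h2.ne .zero
  have n3 := h1.ne h2
  obtain ⟨rfl, h⟩ | ⟨rfl, h⟩ | ⟨rfl, h⟩ : (x = 32 ∧ (y = 2 ∨ y = 34)) ∨ (x = 34 ∧ (y = 2 ∨ y = 32)) ∨
      (x = 2 ∧ (y = 34 ∨ y = 32)) := by clear_aux_decl; clear * - hx hy a b n1 n2 n3; revert y; revert x; decide +kernel
  · exact k h1 h2 h
  · obtain ⟨y', p, q⟩ : ∃ y', 𝔪 ρ y y' ∧ (y' = 2 ∨ y' = 34) := by
      rcases h with rfl | rfl
      exacts [⟨_, r4, .inr rfl⟩, ⟨_, r3, .inl rfl⟩]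
    obtain ⟨v, a, b, c, d, f⟩ := k (h1.trans r5) (h2.trans p) q
    exact ⟨ρ * v, r1.trans a, r2.trans b, mul_mem rn c, by rwa [← mul_assoc], by rwa [← mul_assoc]⟩
  · obtain ⟨y', p, q⟩ : ∃ y', 𝔪 (ρ * ρ) y y' ∧ (y' = 2 ∨ y' = 34) := by
      rcases h with rfl | rfl
      exacts [⟨_, r5.trans r3, .inl rfl⟩, ⟨_, r3.trans r4, .inr rfl⟩]
    obtain ⟨v, a, b, c, d, f⟩ := k (h1.trans (r4.trans r5)) (h2.trans p) q
    exact ⟨ρ * ρ * v, (r1.trans r1).trans a, (r2.trans r2).trans b, mul_mem (mul_mem rn rn) c,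
      by rwa [← mul_assoc], by rwa [← mul_assoc]⟩

theorem imD {w : G} (ht : 𝔪 w 8 8) (hw : w ∈ normalizer (MS C.gs 58 : Set G)) (x : ℕ) (hl : x < 64) (hx : IM 34 x) :
    ∃ y < 64, IM 34 y ∧ 𝔪 w x y := by
  obtain ⟨y, a, b, c⟩ := Mp.exm (h := C.pg) okA hw x (IM.trans (by decide) hx)
  have := C.fus ht c
  have k : x / 8 % 4 = 0 := (by clear_aux_decl; clear * - hl hx; decide +kernel +revert)
  rw [k] at this
  exact ⟨y, a, by clear_aux_decl; clear * - a b this; decide +kernel +revert, c⟩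

/-- An element of `C(t)` trivial on `E` and normalising `A` centralises `f`. -/
theorem fixf0 {w : G} (ht : 𝔪 w 8 8) (hz : 𝔪 w 32 32) (hr : 𝔪 w 2 2) (hw : w ∈ normalizer (MS C.gs 58 : Set G)) :
    𝔪 w 16 16 := by
  obtain ⟨y, a, b, c⟩ := Mp.exm (h := C.pg) okA hw 16
  have d := C.fus ht c
  have k : 𝔪 w y 16 := by
    obtain rfl | rfl | rfl | rfl : y = 16 ∨ y = 18 ∨ y = 48 ∨ y = 50 := by clear_aux_decl; clear * - a b d; decide +kernel +revert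
    exacts [c, (c.mul hr).cast _ _, (c.mul hz).cast _ _, ((c.mul hr).mul hz).cast _ _]
  obtain ⟨m, n, hm, hn⟩ := exists_odd_pow w
  obtain ⟨x, xt, hx⟩ := C.into _ (pg_sup C.pA hn (pow_mem hw m)) fun y hy => mem_cent.1
    ((sup_le (fun y h => mem_cent.2 (C.fixt (ms_le _ _ h))) (zpowers_le.2 (mem_cent.2 (ht.pow m))) :
      _ ≤ centralizer {𝔰 8}) hy)
  have I : ∀ i, IM 58 i → ∃ j < 64, 𝔪 x i j := fun i h => Mp.ex _ _ (hx _ (mem_sup_left (el_mem_ms h)))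
  obtain ⟨z1, l1, m1⟩ := I 32 (by decide)
  have p1 := C.fus xt m1
  have p2 := m1.sq
  have p3 := m1.ne .zero
  obtain ⟨r1, l2, m2⟩ := I 2 (by decide)
  have p4 := C.fus xt m2
  have p5 := m2.sq
  have p6 := m2.ne .zero
  have p7 := m1.ne m2
  have p8 := m1.co m2
  obtain ⟨f1, l3, m3⟩ := I 16 (by decide)
  have p9 := m3.co m1
  have p10 := m3.co m2
  have p11 := m3.sq
  obtain ⟨w1, l4, m4⟩ := C.pg.ex (hx _ (mem_sup_right (mem_zpowers _)))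
  have p12 := (hz.pow m).act m1 m1 m4
  have p13 := (hr.pow m).act m2 m2 m4
  have : EQ 64 (cj (DS e) f1 w1) f1 := by
    clear_aux_decl; clear * - l1 p1 p2 p3 l2 p4 p5 p6 p7 p8 l3 p9 p10 p11 l4 p12 p13; decide +kernel +revert
  have u : cg (𝔰 16) (w ^ m) = 𝔰 16 := by
    rw [← cg_inj (g := x), cg_cg', m3, m4, C.pg.cg, C.pg.eq]; exact this
  exact (cg_odd (c.trans k) hm).symm.trans u

theorem fixf {w : G} (ht : 𝔪 w 8 8) (hw : w ∈ normalizer (MS C.gs 58 : Set G)) : 𝔪 w 16 16 := by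
  obtain ⟨x, a, b, c⟩ := C.imD ht hw 32 (by decide) (by decide)
  obtain ⟨y, a', b', c'⟩ := C.imD ht hw 2 (by decide) (by decide)
  obtain ⟨v, v1, v2, v3, v4, v5⟩ := C.normE c c' a a' b b'
  simpa using (C.fixf0 (ht.trans v1) v4 v5 (mul_mem hw v3)).trans v2.symm

theorem nmT {w : G} {a b c d f : ℕ} (h1 : 𝔪 w 2 a) (h0 : 𝔪 w 4 f) (h2 : 𝔪 w 8 b) (h3 : 𝔪 w 16 c) (h4 : 𝔪 w 32 d)
    (h : IM 62 a ∧ IM 62 f ∧ IM 62 b ∧ IM 62 c ∧ IM 62 d := by decide) : w ∈ normalizer (MS C.gs 62 : Set G) :=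
  C.pg.nm_ms fun i p q => by
    obtain rfl | rfl | rfl | rfl | rfl : i = 1 ∨ i = 2 ∨ i = 3 ∨ i = 4 ∨ i = 5 := (by clear_aux_decl; clear * - p q; decide +kernel +revert)
    exacts [h1.mem h.1, h0.mem h.2.1, h2.mem h.2.2.1, h3.mem h.2.2.2.1, h4.mem h.2.2.2.2]

/-- `w` centralises `S* = ⟨r, c, t, f, z⟩`. -/
def CT (w : G) : Prop := 𝔪 w 2 2 ∧ 𝔪 w 4 4 ∧ 𝔪 w 8 8 ∧ 𝔪 w 16 16 ∧ 𝔪 w 32 32

theorem CT.all {w : G} (h : C.CT w) {x : ℕ} (hx : IM 62 x) : 𝔪 w x x := by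
  have : MS C.gs 62 ≤ centralizer {w} := (ms_le_iff C.pg).2 fun i p q => by
    obtain rfl | rfl | rfl | rfl | rfl : i = 1 ∨ i = 2 ∨ i = 3 ∨ i = 4 ∨ i = 5 := (by clear_aux_decl; clear * - p q; decide +kernel +revert)
    exacts [mem_cent.2 (cg_comm h.1), mem_cent.2 (cg_comm h.2.1), mem_cent.2 (cg_comm h.2.2.1),
      mem_cent.2 (cg_comm h.2.2.2.1), mem_cent.2 (cg_comm h.2.2.2.2)]
  exact cg_comm (mem_cent.1 (this (el_mem_ms hx)))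

/-- An element of `C(t)` mapping `S*` into `S` acts on it as an element of `S`. -/
theorem nS {w : G} (ht : 𝔪 w 8 8) (h : ∀ x, IM 62 x → cg (𝔰 x) w ∈ gen C.gs) : ∃ y < 64, C.CT (w * 𝔰 y) := by
  have I : ∀ i, IM 62 i → ∃ j < 64, 𝔪 w i j := fun i a => Mp.ex _ _ (h _ a)
  obtain ⟨r1, l1, m1⟩ := I 2 (by decide)
  have p1 := C.fus ht m1
  have p2 := m1.sq
  obtain ⟨s1, l2, m2⟩ := I 6 (by decide)
  have p3 := C.fus ht m2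
  have p4 := m2.sq
  have p5 := (m1.mul m2).ne (m2.mul m1)
  obtain ⟨y, l3, p6⟩ : ∃ y < 64, EQ 64 (cj (DS e) r1 y) 2 ∧ EQ 64 (cj (DS e) s1 y) 6 := (by clear_aux_decl; clear * - l1 p1 p2 l2 p3 p4 p5; decide +kernel +revert)
  have m3 := (m1.tr y).r _ p6.1
  have m4 := (m2.tr y).r _ p6.2
  have m5 : 𝔪 (w * 𝔰 y) 8 8 := ht.trans (C.fixt (el_mem _ _))
  have m6 : 𝔪 (w * 𝔰 y) 32 32 := (m3.ck m4).cast _ _
  have m7 : 𝔪 (w * 𝔰 y) 4 4 := (m3.mul m4).cast _ _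
  obtain ⟨f1, l4, m8⟩ := Mp.ex (x := 16) C.pg C.pg (w := w * 𝔰 y) (by
    rw [← cg_cg]; exact cg_mem (h _ (by decide)) (el_mem _ _))
  have p7 := C.fus m5 m8
  have p8 := m8.co m3
  have p9 := m8.co m4
  have p10 : IM 58 f1 := (by clear_aux_decl; clear * - l4 p7 p8 p9; decide +kernel +revert)
  exact ⟨y, l3, m3, m7, m5, C.fixf m5 (C.nmA m3 m5 m8 m6 ⟨by decide, by decide, p10, by decide⟩), m6⟩

/-- A 2-subgroup of `C(t)` containing `S*`: an element is in `S*` or swaps the two elementary subgroups. -/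
theorem sw {P : Subgroup G} (hP : IsPGroup 2 P) (a : MS C.gs 62 ≤ P) {y : G} (d : y ∈ P) (f : 𝔪 y 8 8) :
    y ∈ MS C.gs 62 ∨ 𝔪 y 2 6 ∨ 𝔪 y 2 38 := by
  obtain ⟨x, xt, hx⟩ := C.into _ (hP.to_le (inf_le_left : P ⊓ centralizer {𝔰 8} ≤ P)) fun y h => mem_cent.1 h.2
  obtain ⟨u, -, hu⟩ := C.nS xt fun i b => hx _ ⟨a (el_mem_ms b), mem_cent.2 (C.fixt (el_mem _ _))⟩
  obtain ⟨v, l, hv⟩ := C.pg.ex (cg_mem (hx y ⟨d, mem_cent.2 f⟩) (el_mem _ u))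
  rw [cg_cg] at hv
  obtain p | p | p : IM 62 v ∨ EQ 64 (cj (DS e) 2 v) 6 ∨ EQ 64 (cj (DS e) 2 v) 38 := (by clear_aux_decl; clear * - l; decide +kernel +revert)
  · exact .inl (cg_inj.1 (hv.trans (hu.all C p).e.symm) ▸ el_mem_ms p)
  · refine .inr (.inl ((cg_inj (g := x * 𝔰 u)).1 ?_))
    rw [cg_cg', hv, hu.1, hu.all C (by decide), C.pg.cg, C.pg.eq]; exact p
  · refine .inr (.inr ((cg_inj (g := x * 𝔰 u)).1 ?_))
    rw [cg_cg', hv, hu.1, hu.all C (by decide), C.pg.cg, C.pg.eq]; exact p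

/-- Conjugates of `t` in `A` are conjugate under `N(A)`. -/
theorem toA (he : e = true) {y : ℕ} (hy : y = 16 ∨ y = 24) (h : IsConj (𝔰 8) (𝔰 y)) :
    ∃ n ∈ normalizer (MS C.gs 58 : Set G), 𝔪 n 8 y := by
  subst he
  obtain ⟨g, hg⟩ := exists_cg h
  obtain ⟨x, xt, hx⟩ := C.into ((MS C.gs 58).map (cgH g⁻¹)) (C.pA.map _) (by
    rintro _ ⟨u, a, rfl⟩
    obtain ⟨u, l, p, rfl⟩ := C.pg.ex_ms okA a
    rw [cgH_apply, ← cg_symm hg, ← cg_cg', (Mp.sf C.pg u y y (by rcases hy with rfl | rfl <;> exact (by clear_aux_decl; clear * - l p; decide +kernel +revert))).e])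
  have I : ∀ i, IM 58 i → ∃ j < 64, 𝔪 (g⁻¹ * x) i j := fun i h => Mp.ex _ _ (by
    rw [← cg_cg]; exact hx _ ⟨_, el_mem_ms h, cgH_apply _ _⟩)
  have m0 : 𝔪 (g⁻¹ * x) y 8 := (Mp.symm hg).trans xt
  have L : ∀ x < 64, EQ 64 (mul (DS true) x x) 0 → x ∈ [0, 2, 6, 8, 10, 14, 16, 18, 19, 22, 23, 24, 26, 27, 30, 31,
    32, 34, 38, 40, 42, 46, 48, 50, 51, 54, 55, 56, 58, 59, 62, 63] := dk
  obtain ⟨x1, l1, m1⟩ := I 8 (by decide)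
  obtain ⟨x2, l2, m2⟩ := I 32 (by decide)
  obtain ⟨x3, l3, m3⟩ := I 2 (by decide)
  have p : ∀ i < 16, i ≠ 0 → ¬ EQ 64 (hm (mul (DS true)) [8, x1, x2, x3] i) 0 := fun i a b =>
    (Mp.hom (.cons m0 (.cons m1 (.cons m2 (.cons m3 .nil)))) i).ne .zero (by rcases hy with rfl | rfl <;> exact (by clear_aux_decl; clear * - a b; decide +kernel +revert))
  have key : ∀ x1 ∈ [0, 2, 6, 8, 10, 14, 16, 18, 19, 22, 23, 24, 26, 27, 30, 31,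
    32, 34, 38, 40, 42, 46, 48, 50, 51, 54, 55, 56, 58, 59, 62, 63], ∀ x2 ∈ [0, 2, 6, 8, 10, 14, 16, 18, 19, 22, 23, 24, 26,
    27, 30, 31, 32, 34, 38, 40, 42, 46, 48, 50, 51, 54, 55, 56, 58, 59, 62, 63],
    EQ 64 (mul (DS true) x1 x2) (mul (DS true) x2 x1) → ∀ x3 ∈ [0, 2, 6, 8, 10, 14, 16, 18, 19, 22, 23, 24, 26,
    27, 30, 31, 32, 34, 38, 40, 42, 46, 48, 50, 51, 54, 55, 56, 58, 59, 62, 63],
    (∃ u < 2, IM 58 (cj (DS true) x1 u % 64) ∧ IM 58 (cj (DS true) x2 u % 64) ∧ IM 58 (cj (DS true) x3 u % 64)) ∨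
    (EQ 64 (mul (DS true) x1 x3) (mul (DS true) x3 x1) → EQ 64 (mul (DS true) x2 x3) (mul (DS true) x3 x2) →
      ∃ i < 16, i ≠ 0 ∧ EQ 64 (hm (mul (DS true)) [8, x1, x2, x3] i) 0) := dk
  obtain ⟨u, -, q1, q2, q3⟩ := (key x1 (L _ l1 m1.sq) x2 (L _ l2 m2.sq) (m1.co m2) x3 (L _ l3 m3.sq)).resolve_right
    fun k => let ⟨i, a, b, c⟩ := k (m1.co m3) (m2.co m3); p i a b c
  have m4 : 𝔪 (g⁻¹ * x * 𝔰 u) y 8 := m0.trans (C.fixt (el_mem _ _))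
  have k : ∀ {i j}, 𝔪 (g⁻¹ * x) i j → 𝔪 (g⁻¹ * x * 𝔰 u) i (cj (DS true) j u % 64) := fun a =>
    (a.tr u).r _ (Nat.mod_mod _ _).symm
  refine ⟨_, inv_mem (C.pg.nm_ms fun i p q => ?_), m4.symm⟩
  obtain rfl | rfl | rfl | rfl : i = 1 ∨ i = 3 ∨ i = 4 ∨ i = 5 := (by clear_aux_decl; clear * - p q; decide +kernel +revert)
  · exact (k m3).mem q3
  · exact (k m1).mem q1
  · rcases hy with rfl | rfl
    · exact m4.mem
    · rw [← (C.pg.eq _ _).2 (dk : EQ 64 (mul (DS true) 8 24) (2 ^ 4)), ← C.pg.mul, cg_mul]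
      exact mul_mem ((k m1).mem q1) m4.mem
  · exact (k m2).mem q2

end Cfg0

end Cfsg.Lib.H33
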