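import Cfsg.Agent.Lib.H33.Pc
import Cfsg.Agent.Lib.Transfer.SylowIn

/-! The local data of an involution with a 2-component of type `L₃(3)` (helper5). -/

set_option autoImplicit false

namespace Cfsg.Lib.H33

open Subgroup

/-- A Sylow 2-subgroup `S = (Q × D)⟨f⟩` of `C(t)`, `D = ⟨a, r⟩` semidihedral of order 16, `Q` cyclic, `f` either trivial
(`eps = false`) or inducing a graph automorphism (`eps = true`); `cg x g = g⁻¹ x g`. -/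
structure P0 {G : Type*} [Group G] (t : G) where
  a : G
  r : G
  f : G
  Q : Subgroup G
  S : Subgroup G
  eps : Bool
  a8 : a ^ 8 = 1
  a4 : a ^ 4 ≠ 1
  r2 : r * r = 1
  ar : cg a r = a ^ 3
  cyc : IsCyclic Q
  tQ : t ∈ Q
  Qa : ∀ q ∈ Q, cg a q = a
  Qr : ∀ q ∈ Q, cg r q = r
  QD : ∀ q ∈ Q, q ∈ gen [a, r] → q = 1
  fQ : ∀ q ∈ Q, cg q f ∈ Q
  f2 : f * f ∈ Q
  fa : eps = true → cg a f = a ^ 5
  fr : cg r f = r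
  f1 : eps = false → f = 1
  QS : Q ≤ S
  aS : a ∈ S
  rS : r ∈ S
  fS : f ∈ S
  dec : ∀ x ∈ S, ∃ q ∈ Q, ∃ d ∈ gen [a, r], x = q * d ∨ x = q * d * f
  pS : IsPGroup 2 S
  le : S ≤ centralizer {t}
  syl : ¬ 2 ∣ S.relIndex (centralizer {t})
  fus : ∀ h ∈ centralizer {t}, ∀ x ∈ S, cg x h ∈ S → ∃ s ∈ S, (cg x s)⁻¹ * cg x h ∈ gen [a, r]
  rho : ∀ q ∈ Q, ∃ ρ, cg t ρ = t ∧ cg (f * q) ρ = f * q ∧ cg (a ^ 4) ρ = r ∧ cg r ρ = a ^ 4 * r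
  sig : eps = true → ∀ q ∈ Q, ∃ σ, cg t σ = t ∧ cg (f * q * a ^ 2) σ = f * q * a ^ 2 ∧ cg (a ^ 2) σ = a * r ∧
    cg (a * r) σ = a ^ 2 * (a * r)
  sig0 : ∃ σ, cg t σ = t ∧ cg (a ^ 2) σ = a * r ∧ cg (a * r) σ = a ^ 2 * (a * r)

end Cfsg.Lib.H33
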