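import Cfsg.Agent.Lib.H33.Def

/-! Subgroups given by bit masks and their invariance under normalisers (helper5). -/

set_option autoImplicit false

namespace Cfsg.Lib.H33

open Cfsg.Lib.Calc Cfsg.Lib.Transfer Subgroup

variable {G : Type*} [Group G]

/-- The subgroup generated by the generators selected by the mask `m`. -/
def MS (gs : List G) (m : ℕ) : Subgroup G := closure {g | ∃ i, m.testBit i = true ∧ g = el gs (2 ^ i)}

/-- `x` is supported in the mask `m`. -/
def IM (m x : ℕ) : Prop := x &&& m = x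

instance decIM (m x : ℕ) : Decidable (IM m x) := Nat.decEq _ _

theorem el_mem_ms {gs : List G} {m x : ℕ} (h : IM m x) : el gs x ∈ MS gs m := by
  induction gs generalizing m x with
  | nil => exact one_mem _
  | cons g gs ih =>
    refine mul_mem ?_ (closure_mono ?_ (ih (m := m / 2) (x := x / 2) (by rw [IM, ← Nat.and_div_two, h])))
    · split_ifs with a
      · refine subset_closure ⟨0, ?_, by simp [el, el_zero]⟩
        have := congrArg (Nat.testBit · 0) h
        simp only [Nat.testBit_and] at this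
        simpa [Nat.testBit_zero, a] using this
      · exact one_mem _
    · rintro _ ⟨i, a, rfl⟩
      exact ⟨i + 1, by rwa [Nat.testBit_succ], by rw [pow_succ', el_even]⟩

theorem ms_le (gs : List G) (m : ℕ) : MS gs m ≤ gen gs := (closure_le _).2 fun _ ⟨_, _, e⟩ => e ▸ el_mem _ _

theorem ms_gen {gs : List G} {m i : ℕ} (h : m.testBit i = true) : el gs (2 ^ i) ∈ MS gs m := subset_closure ⟨i, h, rfl⟩

theorem ms_mono {gs : List G} {m z : ℕ} (h : IM m z) : MS gs z ≤ MS gs m :=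
  (closure_le _).2 fun _ ⟨i, c, e⟩ => e ▸ ms_gen (by
    have := congrArg (Nat.testBit · i) h
    simp only [Nat.testBit_and, c, Bool.true_and] at this
    exact this)

theorem el_big {gs : List G} {i : ℕ} (h : gs.length ≤ i) : el gs (2 ^ i) = 1 := by
  rw [← el_mod, Nat.mod_eq_zero_of_dvd (Nat.pow_dvd_pow _ h), el_zero]

theorem ms_le_iff {gs : List G} {D : Dat} {N m : ℕ} (h : PG gs D N) {H : Subgroup G} :
    MS gs m ≤ H ↔ ∀ i < N.log2, m.testBit i = true → el gs (2 ^ i) ∈ H := by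
  refine (closure_le _).trans ⟨fun a i _ b => a ⟨i, b, rfl⟩, ?_⟩
  rintro a _ ⟨i, b, rfl⟩
  by_cases c : i < gs.length
  · exact a i (by rwa [← h.len, Nat.log2_two_pow]) b
  · rw [el_big (not_lt.1 c)]; exact one_mem H

/-- The elements supported in `m` are closed under multiplication by the selected generators. -/
def msOK (D : Dat) (N m : ℕ) : Prop := ∀ x < N, IM m x → ∀ i < N.log2, m.testBit i = true → IM m (mul D x (2 ^ i) % N)

noncomputable instance decMsOK (D : Dat) (N m : ℕ) : Decidable (msOK D N m) := by unfold msOK; infer_instance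

theorem el_modN {gs : List G} {D : Dat} {N : ℕ} (h : PG gs D N) (x : ℕ) : el gs (x % N) = el gs x := by
  rw [h.inj, Nat.mod_mod]

namespace PG

variable {gs : List G} {D : Dat} {N : ℕ}

theorem mem_ms [Finite G] (h : PG gs D N) {m : ℕ} (k : msOK D N m) (x : ℕ) : el gs x ∈ MS gs m ↔ IM m (x % N) := by
  refine ⟨fun a => ?_, fun a => el_modN h x ▸ el_mem_ms a⟩
  have key : ∀ g ∈ MS gs m, ∀ y < N, IM m y → ∃ u < N, IM m u ∧ el gs y * g = el gs u := by
    intro g hg
    have : g ∈ Submonoid.closure {g | ∃ i, m.testBit i = true ∧ g = el gs (2 ^ i)} := by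
      rw [← Subgroup.closure_toSubmonoid_of_finite]; exact hg
    refine Submonoid.closure_induction ?_ (fun y a b => ⟨y, a, b, mul_one _⟩) ?_ this
    · rintro _ ⟨i, b, rfl⟩ y c d
      by_cases e : i < gs.length
      · exact ⟨_, Nat.mod_lt _ h.pos, k y c d i (by rwa [← h.len, Nat.log2_two_pow]) b, by rw [el_modN h, h.mul]⟩
      · exact ⟨y, c, d, by rw [el_big (not_lt.1 e), mul_one]⟩
    · intro u v _ _ p q y c d
      obtain ⟨u, c, d, e⟩ := p y c d
      obtain ⟨v, c, d, e'⟩ := q u c d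
      exact ⟨v, c, d, by rw [← mul_assoc, e, e']⟩
  obtain ⟨u, b, c, d⟩ := key _ a 0 h.pos (Nat.zero_and _)
  rw [el_zero, one_mul, h.inj, Nat.mod_eq_of_lt b] at d
  rwa [d]

theorem ex_ms [Finite G] (h : PG gs D N) {m : ℕ} (k : msOK D N m) {g : G} (hg : g ∈ MS gs m) :
    ∃ x < N, IM m x ∧ g = el gs x := by
  obtain ⟨x, a, rfl⟩ := h.ex (ms_le _ _ hg)
  exact ⟨x, a, by simpa [Nat.mod_eq_of_lt a] using (h.mem_ms k x).1 hg, rfl⟩

theorem ms_top (h : PG gs D N) : MS gs (N - 1) = gen gs := by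
  refine (ms_le _ _).antisymm fun g hg => ?_
  obtain ⟨x, a, rfl⟩ := h.ex hg
  refine el_mem_ms ?_
  rw [IM, ← h.len, Nat.and_two_pow_sub_one_eq_mod, Nat.mod_eq_of_lt (h.len ▸ a)]

/-- The image of a generator-supported element under a normalising element. -/
theorem img [Finite G] (h : PG gs D N) {m : ℕ} (k : msOK D N m) {w : G} (hw : w ∈ normalizer (MS gs m : Set G)) {x : ℕ}
    (hx : IM m x) : ∃ y < N, IM m y ∧ H33.cg (el gs x) w = el gs y := h.ex_ms k (cg_mem_norm (el_mem_ms hx) hw)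

theorem img0 (h : PG gs D N) {w : G} (hw : w ∈ normalizer (gen gs : Set G)) (x : ℕ) :
    ∃ y < N, H33.cg (el gs x) w = el gs y := h.ex (cg_mem_norm (el_mem _ _) hw)

theorem img_iff [Finite G] (h : PG gs D N) {m : ℕ} (k : msOK D N m) {w : G} (hw : w ∈ normalizer (MS gs m : Set G)) {x y : ℕ}
    (e : H33.cg (el gs x) w = el gs y) : IM m (x % N) ↔ IM m (y % N) := by
  rw [← h.mem_ms k, ← h.mem_ms k, ← e]
  exact ⟨fun a => cg_mem_norm a hw, fun a => mem_of_cg_mem a hw⟩

/-- Normalising a masked subgroup. -/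
theorem nm_ms [Finite G] (h : PG gs D N) {m : ℕ} {w : G}
    (a : ∀ i < N.log2, m.testBit i = true → H33.cg (el gs (2 ^ i)) w ∈ MS gs m) : w ∈ normalizer (MS gs m : Set G) :=
  mem_norm_of_cg fun x hx => by
    have : MS gs m ≤ (MS gs m).comap (cgH w) := (ms_le_iff h).2 fun i b c => by simpa [cgH_apply] using a i b c
    simpa [cgH_apply] using this hx

theorem nm_el [Finite G] (h : PG gs D N) {m y : ℕ}
    (a : ∀ i < N.log2, m.testBit i = true → IM m (cj D (2 ^ i) y % N)) : el gs y ∈ normalizer (MS gs m : Set G) :=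
  h.nm_ms fun i b c => by rw [h.cg, ← el_modN h]; exact el_mem_ms (a i b c)

end PG

theorem cm_mul_right (x y u : G) : cm x (y * u) = cm x u * cg (cm x y) u := by simp [cm, cg, mul_assoc]
theorem cm_mul_left (x y u : G) : cm (x * y) u = cg (cm x u) y * cm y u := by simp [cm, cg, mul_assoc]
theorem cm_inv_right (x y : G) : cm x y⁻¹ = cg (cm x y)⁻¹ y⁻¹ := by simp [cm, cg, mul_assoc]
theorem cm_inv_left (x y : G) : cm x⁻¹ y = cg (cm x y)⁻¹ x⁻¹ := by simp [cm, cg, mul_assoc]
theorem cm_eq_one {x y : G} : cm x y = 1 ↔ cg x y = x := by rw [cm, inv_mul_eq_one, eq_comm]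

/-- The elements centralising `x` modulo `Z`. -/
def rcR (x : G) (Z : Subgroup G) : Subgroup G where
  carrier := {y | y ∈ normalizer (Z : Set G) ∧ cm x y ∈ Z}
  one_mem' := ⟨one_mem _, by simp [cm]⟩
  mul_mem' := fun a b => ⟨mul_mem a.1 b.1, by rw [cm_mul_right]; exact mul_mem b.2 (cg_mem_norm a.2 b.1)⟩
  inv_mem' := fun a => ⟨inv_mem a.1, by rw [cm_inv_right]; exact cg_mem_norm (inv_mem a.2) (inv_mem a.1)⟩

/-- The elements centralised by `y` modulo `Z`. -/
def rcL (y : G) (Z : Subgroup G) : Subgroup G where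
  carrier := {x | x ∈ normalizer (Z : Set G) ∧ cm x y ∈ Z}
  one_mem' := ⟨one_mem _, by simp [cm]⟩
  mul_mem' := fun a b => ⟨mul_mem a.1 b.1, by rw [cm_mul_left]; exact mul_mem (cg_mem_norm a.2 b.1) b.2⟩
  inv_mem' := fun a => ⟨inv_mem a.1, by rw [cm_inv_left]; exact cg_mem_norm (inv_mem a.2) (inv_mem a.1)⟩

/-- The generators in `k` normalise the subgroup `z`. -/
def nmOK (D : Dat) (N k z : ℕ) : Prop :=
  ∀ j < N.log2, k.testBit j = true → ∀ i < N.log2, z.testBit i = true → IM z (cj D (2 ^ i) (2 ^ j) % N)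

noncomputable instance decNmOK (D : Dat) (N k z : ℕ) : Decidable (nmOK D N k z) := by unfold nmOK; infer_instance

/-- `m` is the set of elements of `r` centralising `k` modulo `z`. -/
def rcOK (D : Dat) (N r k z m : ℕ) : Prop := nmOK D N k z ∧ IM r m ∧
  ∀ x < N, IM r x → (IM m x ↔ ∀ j < N.log2, k.testBit j = true → IM z (ck D x (2 ^ j) % N))

noncomputable instance decRcOK (D : Dat) (N r k z m : ℕ) : Decidable (rcOK D N r k z m) := by unfold rcOK; infer_instance

theorem IM.trans {r m x : ℕ} (a : IM r m) (b : IM m x) : IM r x := by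
  rw [IM, ← b, Nat.and_assoc, a]

namespace PG

variable [Finite G] {gs : List G} {D : Dat} {N : ℕ}

theorem le_nm (h : PG gs D N) {k z : ℕ} (a : nmOK D N k z) : MS gs k ≤ normalizer (MS gs z : Set G) :=
  (ms_le_iff h).2 fun j b c => h.nm_el (a j b c)

theorem rc_iff (h : PG gs D N) {r k z m : ℕ} (kr : msOK D N r) (kz : msOK D N z) (km : msOK D N m) (a : rcOK D N r k z m)
    {x : G} : x ∈ MS gs m ↔ x ∈ MS gs r ∧ ∀ y ∈ MS gs k, H33.cm x y ∈ MS gs z := by
  constructor
  · intro b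
    obtain ⟨x, c, d, rfl⟩ := h.ex_ms km b
    refine ⟨el_mem_ms (a.2.1.trans d), fun y hy => ((ms_le_iff h (H := rcR (el gs x) (MS gs z))).2 (fun j p q => ?_) hy).2⟩
    exact ⟨h.nm_el (a.1 j p q), by rw [h.cm, h.mem_ms kz]; exact (a.2.2 x c (a.2.1.trans d)).1 d j p q⟩
  · rintro ⟨b, e⟩
    obtain ⟨x, c, d, rfl⟩ := h.ex_ms kr b
    refine el_mem_ms ((a.2.2 x c d).2 fun j p q => ?_)
    rw [← h.mem_ms kz, ← h.cm]
    exact e _ (subset_closure ⟨j, q, rfl⟩)

theorem nm_rc (h : PG gs D N) {r k z m : ℕ} (kr : msOK D N r) (kz : msOK D N z) (km : msOK D N m) (a : rcOK D N r k z m)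
    {w : G} (wr : w ∈ normalizer (MS gs r : Set G)) (wk : w ∈ normalizer (MS gs k : Set G))
    (wz : w ∈ normalizer (MS gs z : Set G)) : w ∈ normalizer (MS gs m : Set G) :=
  mem_norm_of_cg fun x hx => by
    rw [h.rc_iff kr kz km a] at hx ⊢
    refine ⟨cg_mem_norm hx.1 wr, fun y hy => ?_⟩
    rw [← cg_inv_cg y w, ← cg_cm]
    exact cg_mem_norm (hx.2 _ (cg_mem_norm hy (inv_mem wk))) wz

theorem nm_zero (gs : List G) (w : G) : w ∈ normalizer (MS gs 0 : Set G) :=
  mem_norm_of_cg fun x hx => by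
    have : MS gs 0 = ⊥ := by simp [MS]
    rw [this, mem_bot] at hx ⊢
    rw [hx, cg_one]

/-- `m` is generated by `z` and the commutators of `k` with `l` (witnesses `W`). -/
theorem nm_cm (h : PG gs D N) {k l z m : ℕ} (W : ℕ → ℕ × ℕ × ℕ) (km : msOK D N m)
    (a : nmOK D N k m ∧ nmOK D N l m ∧ IM m z ∧
      (∀ i < N.log2, k.testBit i = true → ∀ j < N.log2, l.testBit j = true → IM m (ck D (2 ^ i) (2 ^ j) % N)) ∧
      ∀ i < N.log2, m.testBit i = true → IM k (W i).1 ∧ IM l (W i).2.1 ∧ IM z (W i).2.2 ∧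
        2 ^ i % N = H33.mul D (ck D (W i).1 (W i).2.1) (W i).2.2 % N)
    {w : G} (wk : w ∈ normalizer (MS gs k : Set G)) (wl : w ∈ normalizer (MS gs l : Set G))
    (wz : w ∈ normalizer (MS gs z : Set G)) : w ∈ normalizer (MS gs m : Set G) := by
  obtain ⟨a1, a2, a3, a4, a5⟩ := a
  have key : ∀ x ∈ MS gs k, ∀ y ∈ MS gs l, H33.cm x y ∈ MS gs m := fun x hx y hy =>
    ((ms_le_iff h (H := rcL y (MS gs m))).2 (fun i p q => ⟨h.nm_el (a1 i p q),
      ((ms_le_iff h (H := rcR _ (MS gs m))).2 (fun j p' q' => ⟨h.nm_el (a2 j p' q'), by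
        rw [h.cm, h.mem_ms km]; exact a4 i p q j p' q'⟩) hy).2⟩) hx).2
  refine h.nm_ms fun i p q => ?_
  obtain ⟨b1, b2, b3, b4⟩ := a5 i p q
  rw [(h.inj _ _).2 b4, ← h.mul, ← h.cm, cg_mul, cg_cm]
  refine mul_mem (key _ (cg_mem_norm (el_mem_ms b1) wk) _ (cg_mem_norm (el_mem_ms b2) wl)) ?_
  exact ms_mono a3 (cg_mem_norm (el_mem_ms b3) wz)

/-- `m` is generated by the elements of `k` whose square lies in `z`. -/
theorem nm_om (h : PG gs D N) {k z m : ℕ} (kk : msOK D N k) (kz : msOK D N z)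
    (a : (∀ x < N, IM k x → IM z (H33.mul D x x % N) → IM m x) ∧
      ∀ i < N.log2, m.testBit i = true → IM k (2 ^ i) ∧ IM z (H33.mul D (2 ^ i) (2 ^ i) % N))
    {w : G} (wk : w ∈ normalizer (MS gs k : Set G)) (wz : w ∈ normalizer (MS gs z : Set G)) :
    w ∈ normalizer (MS gs m : Set G) := by
  refine h.nm_ms fun i p q => ?_
  obtain ⟨y, b, c, e⟩ := h.img kk wk (a.2 i p q).1
  rw [e]
  refine el_mem_ms (a.1 y b c ((h.img_iff kz wz ?_).1 (a.2 i p q).2))
  rw [← h.mul, ← h.mul, cg_mul, e]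

theorem nm_inf (h : PG gs D N) {k l : ℕ} (kk : msOK D N k) (kl : msOK D N l)
    {w : G} (wk : w ∈ normalizer (MS gs k : Set G)) (wl : w ∈ normalizer (MS gs l : Set G)) :
    w ∈ normalizer (MS gs (k &&& l) : Set G) := by
  refine h.nm_ms fun i p q => ?_
  rw [Nat.testBit_and, Bool.and_eq_true] at q
  obtain ⟨y, b, c, e⟩ := h.ex_ms kk (cg_mem_norm (ms_gen q.1) wk)
  have := cg_mem_norm (ms_gen q.2) wl
  rw [e, h.mem_ms kl, Nat.mod_eq_of_lt b] at this
  rw [e]
  exact el_mem_ms (by rw [IM, ← Nat.and_assoc, c, this])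

theorem nm_sup (h : PG gs D N) {k l : ℕ}
    {w : G} (wk : w ∈ normalizer (MS gs k : Set G)) (wl : w ∈ normalizer (MS gs l : Set G)) :
    w ∈ normalizer (MS gs (k ||| l) : Set G) := by
  refine h.nm_ms fun i p q => ?_
  rw [Nat.testBit_or, Bool.or_eq_true] at q
  rcases q with q | q
  · exact ms_mono (Nat.eq_of_testBit_eq fun i => by simp only [Nat.testBit_and, Nat.testBit_or]; cases k.testBit i <;> simp) (cg_mem_norm (ms_gen q) wk)
  · exact ms_mono (Nat.eq_of_testBit_eq fun i => by simp only [Nat.testBit_and, Nat.testBit_or]; cases l.testBit i <;> simp) (cg_mem_norm (ms_gen q) wl)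

end PG

end Cfsg.Lib.H33
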