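import Cfsg.Agent.Lib.Calc.Basic

/-! Power-conjugate presentations of finite 2-groups inside an arbitrary group (helper5). -/

set_option autoImplicit false

namespace Cfsg.Lib.H33

open Cfsg.Lib.Calc Subgroup

variable {G : Type*} [Group G]

/-- `g⁻¹ x g`. -/
def cg (x g : G) : G := g⁻¹ * x * g

/-- `x⁻¹ x^g`. -/
def cm (x g : G) : G := x⁻¹ * cg x g

theorem cg_mul (x y g : G) : cg (x * y) g = cg x g * cg y g := by simp [cg, mul_assoc]
theorem cg_inv (x g : G) : cg x⁻¹ g = (cg x g)⁻¹ := by simp [cg, mul_assoc]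
@[simp] theorem cg_one (g : G) : cg 1 g = 1 := by simp [cg]
@[simp] theorem cg_one' (x : G) : cg x 1 = x := by simp [cg]
theorem cg_cg (x g h : G) : cg (cg x g) h = cg x (g * h) := by simp [cg, mul_assoc]
theorem cg_cg' (x g h : G) : cg (cg x g) h = cg (cg x h) (cg g h) := by simp [cg, mul_assoc]
theorem cg_cm (x g h : G) : cg (cm x g) h = cm (cg x h) (cg g h) := by simp [cm, cg, mul_assoc]
theorem cg_pow (x g : G) (n : ℕ) : cg (x ^ n) g = cg x g ^ n := by
  induction n with
  | zero => simp
  | succ n ih => rw [pow_succ, cg_mul, ih, pow_succ]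
@[simp] theorem cg_cg_inv (x g : G) : cg (cg x g) g⁻¹ = x := by simp [cg, mul_assoc]
@[simp] theorem cg_inv_cg (x g : G) : cg (cg x g⁻¹) g = x := by simp [cg, mul_assoc]
@[simp] theorem cg_self (x : G) : cg x x = x := by simp [cg]
theorem cg_inj {x y g : G} : cg x g = cg y g ↔ x = y := by simp [cg]
theorem cg_eq_one {x g : G} : cg x g = 1 ↔ x = 1 := ⟨fun h => cg_inj.1 (h.trans (cg_one g).symm), fun h => h ▸ cg_one g⟩
theorem cg_eq_iff {x g : G} : cg x g = x ↔ x * g = g * x := by
  rw [cg, mul_assoc, inv_mul_eq_iff_eq_mul]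
theorem cg_comm {x g : G} (h : cg x g = x) : cg g x = g := cg_eq_iff.2 (cg_eq_iff.1 h).symm
theorem cg_symm {x y g : G} (h : cg x g = y) : cg y g⁻¹ = x := by rw [← h, cg_cg_inv]
theorem isConj_cg (x g : G) : IsConj x (cg x g) := isConj_iff.2 ⟨g⁻¹, by simp [cg]⟩
theorem exists_cg {x y : G} (h : IsConj x y) : ∃ g, cg x g = y :=
  let ⟨g, e⟩ := isConj_iff.1 h; ⟨g⁻¹, by simpa [cg] using e⟩
theorem cg_mem {H : Subgroup G} {x g : G} (hx : x ∈ H) (hg : g ∈ H) : cg x g ∈ H :=
  mul_mem (mul_mem (inv_mem hg) hx) hg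
theorem cg_mem_norm {H : Subgroup G} {x g : G} (hx : x ∈ H) (hg : g ∈ normalizer (H : Set G)) : cg x g ∈ H := by
  have := (mem_normalizer_iff.1 (inv_mem hg) x).1 hx
  simpa [cg] using this
theorem mem_of_cg_mem {H : Subgroup G} {x g : G} (hx : cg x g ∈ H) (hg : g ∈ normalizer (H : Set G)) : x ∈ H := by
  simpa using cg_mem_norm hx (inv_mem hg)
theorem cm_mem {H : Subgroup G} {x g : G} (hx : x ∈ H) (hg : g ∈ H) : cm x g ∈ H :=
  mul_mem (inv_mem hx) (cg_mem hx hg)
theorem mem_norm_of_cg [Finite G] {H : Subgroup G} {g : G} (h : ∀ x ∈ H, cg x g ∈ H) : g ∈ normalizer (H : Set G) := by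
  have : g⁻¹ ∈ normalizer (H : Set G) := mem_normalizer_fintype fun n hn => by simpa [cg] using h n hn
  simpa using inv_mem this

/-- The group generated by a list. -/
def gen (gs : List G) : Subgroup G := closure {x | x ∈ gs}

theorem mem_gen {gs : List G} {x : G} (h : x ∈ gs) : x ∈ gen gs := subset_closure h
theorem gen_le {gs : List G} {H : Subgroup G} : gen gs ≤ H ↔ ∀ x ∈ gs, x ∈ H := closure_le H
theorem gen_nil : gen ([] : List G) = ⊥ := by simp [gen]
theorem gen_tail (g : G) (gs : List G) : gen gs ≤ gen (g :: gs) := gen_le.2 fun _ h => mem_gen (.tail _ h)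

theorem norm_gen [Finite G] {gs : List G} {g : G} (h : ∀ x ∈ gs, cg x g ∈ gen gs) : g ∈ normalizer (gen gs : Set G) :=
  mem_norm_of_cg fun x hx => by
    have : gen gs ≤ (gen gs).comap (MulAut.conj g⁻¹).toMonoidHom := gen_le.2 fun x hx => by simpa [cg] using h x hx
    simpa [cg] using this hx

/-- The normal form with code `x`. -/
def el : List G → ℕ → G
  | [], _ => 1
  | g :: gs, x => (if x % 2 = 1 then g else 1) * el gs (x / 2)

theorem el_zero (gs : List G) : el gs 0 = 1 := by
  induction gs with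
  | nil => rfl
  | cons g gs ih => simp [el, ih]

theorem el_mem (gs : List G) (x : ℕ) : el gs x ∈ gen gs := by
  induction gs generalizing x with
  | nil => exact one_mem _
  | cons g gs ih =>
    refine mul_mem ?_ (gen_tail _ _ (ih _))
    split_ifs
    exacts [mem_gen (.head _), one_mem _]

theorem el_odd (g : G) (gs : List G) (x : ℕ) : el (g :: gs) (2 * x + 1) = g * el gs x := by
  rw [el, if_pos (by omega), show (2 * x + 1) / 2 = x by omega]

theorem el_even (g : G) (gs : List G) (x : ℕ) : el (g :: gs) (2 * x) = el gs x := by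
  rw [el, if_neg (by omega), show 2 * x / 2 = x by omega, one_mul]

/-- Is `x` odd? -/
noncomputable def od (x : ℕ) : Bool := Nat.beq (Nat.mod x 2) 1

theorem cnd_od (x a b : ℕ) : cnd (od x) a b = if x % 2 = 1 then a else b := by
  split_ifs with h
  · rw [show od x = true from beq_iff.2 h, cnd_true]
  · rw [show od x = false from by
      by_contra n
      exact h (beq_iff.1 (Bool.of_not_eq_false n : od x = true)), cnd_false]

/-- The image of a code under the map sending the generators to `cs`. -/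
noncomputable def hm (mu : ℕ → ℕ → ℕ) (cs : List ℕ) : ℕ → ℕ :=
  List.rec (fun _ => 0) (fun c _ ih x => cnd (Nat.beq x 0) 0
    (forceN (Nat.div x 2) fun y => forceN (ih y) fun u => cnd (od x) (mu c u) u)) cs

theorem hm_cons (mu : ℕ → ℕ → ℕ) (c : ℕ) (cs : List ℕ) (x : ℕ) : hm mu (c :: cs) x =
    if x = 0 then 0 else if x % 2 = 1 then mu c (hm mu cs (x / 2)) else hm mu cs (x / 2) := by
  change cnd (Nat.beq x 0) 0 (forceN (Nat.div x 2) fun y => forceN (hm mu cs y) fun u => cnd (od x) (mu c u) u) = _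
  rw [forceN_eq, forceN_eq, cnd_od]
  by_cases h : x = 0
  · rw [beq_iff.2 h, cnd_true, if_pos h]
  · rw [show Nat.beq x 0 = false from by
        by_contra n
        exact h (beq_iff.1 (Bool.of_not_eq_false n)), cnd_false, if_neg h]; rfl

/-- The data of a presentation: for each generator its square and the conjugates of the later ones. -/
abbrev Dat := List (ℕ × List ℕ)

/-- Multiplication of codes. -/
noncomputable def mul (D : Dat) : ℕ → ℕ → ℕ :=
  List.rec (fun _ _ => 0) (fun d _ ih x y => forceN x fun x => forceN y fun y =>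
    forceN (Nat.div x 2) fun x' => forceN (Nat.div y 2) fun y' =>
      cnd (od y) (forceN (hm ih d.2 x') fun c => cnd (od x) (forceN (ih d.1 c) fun e => Nat.mul 2 (ih e y'))
        (Nat.succ (Nat.mul 2 (ih c y')))) (Nat.add (Nat.mul 2 (ih x' y')) (Nat.mod x 2))) D

theorem mul_cons (d : ℕ × List ℕ) (D : Dat) (x y : ℕ) : mul (d :: D) x y =
    if y % 2 = 1 then (if x % 2 = 1 then 2 * mul D (mul D d.1 (hm (mul D) d.2 (x / 2))) (y / 2)
      else 2 * mul D (hm (mul D) d.2 (x / 2)) (y / 2) + 1) else 2 * mul D (x / 2) (y / 2) + x % 2 := by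
  change (forceN x fun x => forceN y fun y => forceN (Nat.div x 2) fun x' => forceN (Nat.div y 2) fun y' =>
      cnd (od y) (forceN (hm (mul D) d.2 x') fun c => cnd (od x) (forceN (mul D d.1 c) fun e => Nat.mul 2 (mul D e y'))
        (Nat.succ (Nat.mul 2 (mul D c y')))) (Nat.add (Nat.mul 2 (mul D x' y')) (Nat.mod x 2))) = _
  simp only [forceN_eq, cnd_od]
  rfl

/-- Inversion of codes. -/
noncomputable def inv (D : Dat) : ℕ → ℕ :=
  List.rec (fun _ => 0) (fun d D ih x => forceN x fun x => forceN (ih (Nat.div x 2)) fun u =>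
    cnd (od x) (Nat.succ (Nat.mul 2 (mul D (hm (mul D) d.2 u) (ih d.1)))) (Nat.mul 2 u)) D

theorem inv_cons (d : ℕ × List ℕ) (D : Dat) (x : ℕ) : inv (d :: D) x =
    if x % 2 = 1 then 2 * mul D (hm (mul D) d.2 (inv D (x / 2))) (inv D d.1) + 1 else 2 * inv D (x / 2) := by
  change (forceN x fun x => forceN (inv D (Nat.div x 2)) fun u =>
    cnd (od x) (Nat.succ (Nat.mul 2 (mul D (hm (mul D) d.2 u) (inv D d.1)))) (Nat.mul 2 u)) = _
  simp only [forceN_eq, cnd_od]
  rfl

/-- Conjugation of codes. -/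
noncomputable def cj (D : Dat) (x g : ℕ) : ℕ := forceN g fun g => mul D (mul D (inv D g) x) g

/-- Commutators of codes. -/
noncomputable def ck (D : Dat) (x g : ℕ) : ℕ := forceN x fun x => mul D (inv D x) (cj D x g)

/-- The relations hold. -/
def Rel : List G → Dat → Prop
  | [], [] => True
  | g :: gs, d :: D => g * g = el gs d.1 ∧ List.Forall₂ (fun h c => cg h g = el gs c) gs d.2 ∧ Rel gs D
  | _, _ => False

theorem hm_el {gs : List G} {cs : List ℕ} {mu : ℕ → ℕ → ℕ} (hmu : ∀ x y, el gs (mu x y) = el gs x * el gs y)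
    {G' : Type*} [Group G'] (φ : G' →* G) {hs : List G'} (h : List.Forall₂ (fun h c => φ h = el gs c) hs cs) (x : ℕ) :
    el gs (hm mu cs x) = φ (el hs x) := by
  induction h generalizing x with
  | nil => exact (el_zero gs).trans (map_one φ).symm
  | @cons a c hs cs e _ ih =>
    rw [hm_cons, el, map_mul]
    split_ifs with h h' h'
    · omega
    · simp [h, el_zero]
    · rw [hmu, ih, e]
    · rw [ih, map_one, one_mul]

/-- Conjugation as a homomorphism. -/
def cgH (g : G) : G →* G := (MulAut.conj g⁻¹).toMonoidHom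

theorem cgH_apply (g x : G) : cgH g x = cg x g := by simp [cgH, cg]

theorem Rel.mul {gs : List G} {D : Dat} (h : Rel gs D) (x y : ℕ) : el gs (mul D x y) = el gs x * el gs y := by
  induction gs generalizing D x y with
  | nil => simp [el]
  | cons g gs ih =>
    obtain _ | ⟨d, D⟩ := D
    · exact h.elim
    obtain ⟨h1, h2, h3⟩ := h
    have e := hm_el (ih h3) (cgH g) (h2.imp fun _ _ e => (cgH_apply _ _).trans e)
    simp only [cgH_apply] at e
    rw [mul_cons]
    split_ifs with a b
    · rw [el_even, ih h3, ih h3, e, ← h1, el, el, if_pos a, if_pos b]; simp [cg, mul_assoc]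
    · rw [el_odd, ih h3, e, el, el, if_pos a, if_neg b]; simp [cg, mul_assoc]
    · rcases Nat.mod_two_eq_zero_or_one x with b | b
      · rw [b, add_zero, el_even, ih h3, el, el, if_neg a, if_neg (by omega)]; simp
      · rw [b, el_odd, ih h3, el, el, if_neg a, if_pos b]; simp [mul_assoc]

theorem Rel.inv {gs : List G} {D : Dat} (h : Rel gs D) (x : ℕ) : el gs (inv D x) = (el gs x)⁻¹ := by
  induction gs generalizing D x with
  | nil => simp [el]
  | cons g gs ih =>
    obtain _ | ⟨d, D⟩ := D
    · exact h.elim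
    obtain ⟨h1, h2, h3⟩ := h
    have e := hm_el h3.mul (cgH g) (h2.imp fun _ _ e => (cgH_apply _ _).trans e)
    simp only [cgH_apply] at e
    rw [inv_cons]
    split_ifs with a
    · rw [el_odd, h3.mul, e, ih h3, ih h3, ← h1, el, if_pos a]; simp [cg, mul_assoc]
    · rw [el_even, ih h3, el, if_neg a]; simp

/-- The generators are independent. -/
def Ind : List G → Prop
  | [] => True
  | g :: gs => g ∉ gen gs ∧ Ind gs

theorem Ind.inj {gs : List G} (h : Ind gs) {x y : ℕ} (e : el gs x = el gs y) : x % 2 ^ gs.length = y % 2 ^ gs.length := by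
  induction gs generalizing x y with
  | nil => simp [Nat.mod_one]
  | cons g gs ih =>
    rw [List.length_cons, pow_succ', Nat.mod_mul, Nat.mod_mul]
    rw [el, el] at e
    have m := fun x y => mul_mem (el_mem gs x) (inv_mem (el_mem gs y))
    split_ifs at e with a b b
    · rw [a, b, ih h.2 (mul_left_cancel e)]
    · exact absurd (by have := m (y / 2) (x / 2); rwa [← one_mul (el gs (y / 2)), ← e, mul_inv_cancel_right] at this) h.1
    · exact absurd (by have := m (x / 2) (y / 2); rwa [← one_mul (el gs (x / 2)), e, mul_inv_cancel_right] at this) h.1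
    · rw [ih h.2 (mul_left_cancel e)]; omega

theorem el_mod (gs : List G) (x : ℕ) : el gs (x % 2 ^ gs.length) = el gs x := by
  induction gs generalizing x with
  | nil => rfl
  | cons g gs ih =>
    rw [List.length_cons, pow_succ', el, el, Nat.mod_mul_right_mod, Nat.mod_mul_right_div_self, ih]

/-- A consistent power-conjugate presentation of the group generated by `gs`, of order `N`. -/
structure PG (gs : List G) (D : Dat) (N : ℕ) : Prop where
  rel : Rel gs D
  ind : Ind gs
  len : 2 ^ gs.length = N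

namespace PG

variable {gs : List G} {D : Dat} {N : ℕ}

theorem mul (h : PG gs D N) (x y : ℕ) : el gs x * el gs y = el gs (mul D x y) := (h.rel.mul x y).symm
theorem inv (h : PG gs D N) (x : ℕ) : (el gs x)⁻¹ = el gs (inv D x) := (h.rel.inv x).symm
theorem cg (h : PG gs D N) (x y : ℕ) : cg (el gs x) (el gs y) = el gs (cj D x y) := by
  rw [cj, forceN_eq, ← h.mul, ← h.mul, ← h.inv, H33.cg]
theorem cm (h : PG gs D N) (x y : ℕ) : cm (el gs x) (el gs y) = el gs (ck D x y) := by
  rw [ck, forceN_eq, ← h.mul, ← h.cg, ← h.inv, H33.cm]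
theorem inj (h : PG gs D N) (x y : ℕ) : el gs x = el gs y ↔ x % N = y % N :=
  ⟨fun e => h.len ▸ h.ind.inj e, fun e => by rw [← el_mod, h.len, e, ← h.len, el_mod]⟩
theorem one (h : PG gs D N) (x : ℕ) : el gs x = 1 ↔ x % N = 0 := by rw [← el_zero gs, h.inj, Nat.zero_mod]
theorem pos (h : PG gs D N) : 0 < N := h.len ▸ Nat.two_pow_pos _

theorem ex (h : PG gs D N) {g : G} (hg : g ∈ gen gs) : ∃ x < N, g = el gs x := by
  have : ∀ (l : List G) (D : Dat), Rel l D → ∀ a ∈ l, ∃ x, a = el l x := by
    intro l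
    induction l with
    | nil => simp
    | cons b l ih =>
      rintro (_ | ⟨d, D⟩) r a ha
      · exact r.elim
      rcases List.mem_cons.1 ha with rfl | ha
      · exact ⟨2 * 0 + 1, by rw [el_odd, el_zero, mul_one]⟩
      · obtain ⟨x, e⟩ := ih D r.2.2 a ha
        exact ⟨2 * x, by rw [el_even, e]⟩
  obtain ⟨x, rfl⟩ : ∃ x, g = el gs x := by
    refine closure_induction (fun a ha => this gs D h.rel a ha) ⟨0, (el_zero _).symm⟩ ?_ ?_ hg
    · rintro _ _ _ _ ⟨x, rfl⟩ ⟨y, rfl⟩; exact ⟨_, h.mul x y⟩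
    · rintro _ _ ⟨x, rfl⟩; exact ⟨_, h.inv x⟩
  exact ⟨x % N, Nat.mod_lt _ h.pos, by rw [← h.len, el_mod]⟩

theorem card (h : PG gs D N) : Nat.card (gen gs) = N := by
  rw [← Nat.card_fin N]
  refine (Nat.card_eq_of_bijective (fun x : Fin N => (⟨el gs x, el_mem _ _⟩ : gen gs)) ⟨fun x y e => ?_, fun g => ?_⟩).symm
  · have := (h.inj _ _).1 (congrArg Subtype.val e)
    rw [Nat.mod_eq_of_lt x.2, Nat.mod_eq_of_lt y.2] at this
    exact Fin.ext this
  · obtain ⟨x, a, b⟩ := h.ex g.2
    exact ⟨⟨x, a⟩, Subtype.ext b.symm⟩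

theorem pgroup (h : PG gs D N) : IsPGroup 2 (gen gs) := .of_card (h.card.trans h.len.symm)

theorem tail {g : G} {d : ℕ × List ℕ} (h : PG (g :: gs) (d :: D) (2 * N)) : PG gs D N :=
  ⟨h.rel.2.2, h.ind.2, by have := h.len; rw [List.length_cons, pow_succ] at this; omega⟩

theorem cons (h : PG gs D N) {g : G} (hg : g ∉ gen gs) {p : ℕ} {cs : List ℕ} (h1 : g * g = el gs p)
    (h2 : List.Forall₂ (fun h c => H33.cg h g = el gs c) gs cs) : PG (g :: gs) ((p, cs) :: D) (2 * N) :=
  ⟨⟨h1, h2, h.rel⟩, ⟨hg, h.ind⟩, by rw [List.length_cons, pow_succ', h.len]⟩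

/-- Conjugation by a normalising element in terms of codes. -/
theorem hom (h : PG gs D N) {w : G} {hs : List G} {cs : List ℕ}
    (h2 : List.Forall₂ (fun h c => H33.cg h w = el gs c) hs cs) (x : ℕ) :
    H33.cg (el hs x) w = el gs (hm (H33.mul D) cs x) :=
  (cgH_apply _ _).symm.trans (hm_el h.rel.mul (cgH w) (h2.imp fun _ _ e => (cgH_apply _ _).trans e) x).symm

theorem el_map (h : PG gs D N) (cs : List ℕ) (x : ℕ) : el (cs.map (el gs)) x = el gs (hm (H33.mul D) cs x) :=
  (hm_el h.rel.mul (MonoidHom.id G) (hs := cs.map (el gs)) (by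
    rw [List.forall₂_map_left_iff]; exact List.forall₂_same.2 fun _ _ => rfl) x).symm

end PG

/-- The check that the elements with codes `cs` satisfy the presentation `D'`. -/
noncomputable def subOK (D : Dat) (N : ℕ) (cs : List ℕ) : Dat → Bool :=
  List.rec (fun D' => D'.isEmpty) (fun c cs ih D' => List.rec false (fun d D' _ =>
    band (band (decide (mul D c c % N = hm (mul D) cs d.1 % N))
      (decide (List.Forall₂ (fun h e => cj D h c % N = hm (mul D) cs e % N) cs d.2)))
      (band (allLt (2 ^ cs.length) fun x => decide (c % N ≠ hm (mul D) cs x % N)) (ih D'))) D') cs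

theorem PG.sub {gs : List G} {D : Dat} {N : ℕ} (h : PG gs D N) {cs : List ℕ} {D' : Dat} {N' : ℕ}
    (e : subOK D N cs D' = true) (e' : 2 ^ cs.length = N') : PG (cs.map (el gs)) D' N' := by
  induction cs generalizing D' N' with
  | nil =>
    obtain rfl : D' = [] := by simpa [subOK] using e
    exact ⟨trivial, trivial, e'⟩
  | cons c cs ih =>
    obtain _ | ⟨d, D'⟩ := D'
    · exact absurd e (by simp [subOK])
    obtain ⟨e1, e2⟩ := band_eq_true.1 e
    obtain ⟨e1, e3⟩ := band_eq_true.1 e1
    obtain ⟨e2, e4⟩ := band_eq_true.1 e2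
    have k := ih e4 rfl
    rw [← e', List.length_cons, pow_succ']
    refine k.cons (fun m => ?_) (by rw [h.el_map, h.mul, h.inj]; exact of_decide_eq_true e1) ?_
    · obtain ⟨x, a, b⟩ := k.ex m
      rw [h.el_map, h.inj] at b
      exact of_decide_eq_true (of_allLt e2 a) b
    · rw [List.forall₂_map_left_iff]
      exact (of_decide_eq_true e3).imp fun a b e => by rw [h.el_map, h.cg, h.inj]; exact e

/-- Fast bounded quantifiers. -/
noncomputable instance (priority := high) decAll (n : ℕ) (P : ℕ → Prop) [DecidablePred P] : Decidable (∀ i < n, P i) :=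
  decidable_of_iff (allLt n (fun i => decide (P i)) = true) (by simp [allLt_iff])

noncomputable instance (priority := high) decEx (n : ℕ) (P : ℕ → Prop) [DecidablePred P] : Decidable (∃ i < n, P i) :=
  decidable_of_iff (anyLt n (fun i => decide (P i)) = true) (by simp [anyLt_iff])

end Cfsg.Lib.H33
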