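import Cfsg.Agent.Lib.H33.Cfg

/-! The structure of the Sylow subgroup `S = (Q × D)⟨f⟩` of `P0` (helper27). -/

set_option autoImplicit false

namespace Cfsg.Lib.H33

open Subgroup Cfsg.Lib.Transfer

variable {G : Type*} [Group G]

/-- The semidihedral group on `[a, r, c, z]`. -/
def DD : Dat := [(2, [7, 2, 4]), (0, [3, 2]), (1, [1]), (0, [])]

theorem fix_gen {gs : List G} {x y : G} (h : ∀ g ∈ gs, cg x g = x) (m : y ∈ gen gs) : cg x y = x :=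
  mem_cent.1 (gen_le.2 (fun g a => mem_cent.2 (h g a)) m)

theorem mem_cgH {K : Subgroup G} {x g : G} : x ∈ K.comap (cgH g) ↔ cg x g ∈ K := by rw [mem_comap, cgH_apply]

namespace P0

variable {t : G} (P : P0 t) {x y q d n g : G}

set_option hygiene false in
local notation "𝐚" => P0.a P
set_option hygiene false in
local notation "𝐫" => P0.r P
set_option hygiene false in
local notation "𝐟" => P0.f P
set_option hygiene false in
local notation "𝐳" => P0.a P ^ 4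
set_option hygiene false in
local notation "𝐃" => gen [P0.a P, P0.r P]
set_option quotPrecheck false in
local notation "dk" => by clear_aux_decl; clear * -; decide +kernel +revert

def gd : List G := [𝐚, 𝐫, 𝐚 ^ 2, 𝐳]

theorem pw (m n : ℕ) (h : m % 8 = n % 8 := by rfl) : 𝐚 ^ m = 𝐚 ^ n := by rw [pow_eq_pow_mod m P.a8, h, ← pow_eq_pow_mod n P.a8]

theorem aD : 𝐚 ∈ 𝐃 := mem_gen (.head _)
theorem rD : 𝐫 ∈ 𝐃 := mem_gen (.tail _ (.head _))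
theorem gdD : gen P.gd = 𝐃 := le_antisymm (gen_le.2 (by simp [gd, P.aD, P.rD, pow_mem]))
  (gen_le.2 (by simp only [List.forall_mem_cons]; exact ⟨mem_gen (.head _), mem_gen (.tail _ (.head _)), nofun⟩))
theorem elD (i : ℕ) : el P.gd i ∈ 𝐃 := P.gdD ▸ el_mem _ _
theorem e1 : el P.gd 1 = 𝐚 := by simp [gd, el]
theorem e2 : el P.gd 2 = 𝐫 := by simp [gd, el]
theorem e4 : el P.gd 4 = 𝐚 ^ 2 := by simp [gd, el]
theorem e8 : el P.gd 8 = 𝐳 := by simp [gd, el]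

theorem nar (e : cg 𝐚 𝐫 = 𝐚) : False := P.a4 (by
  have := P.ar.symm.trans e
  rw [pow_succ, mul_eq_right] at this
  rw [show 4 = 2 * 2 from rfl, pow_mul, this, one_pow])

theorem pgd : PG P.gd DD 16 := by
  have k : ∀ m n, cg (𝐚 ^ m) (𝐚 ^ n) = 𝐚 ^ m := fun m n => by rw [cg_pow, cg_fix_pow (cg_self _)]
  have k1 : ∀ m, cg (𝐚 ^ m) 𝐚 = 𝐚 ^ m := fun m => by simpa using k m 1
  have p0 : PG ([] : List G) [] 1 := ⟨trivial, trivial, rfl⟩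
  have p1 := p0.cons (g := 𝐳) (by simpa [gen_nil] using P.a4) (p := 0) (by rw [← pow_add, P.a8]; rfl) .nil
  have p2 := p1.cons (g := 𝐚 ^ 2) (fun m => by
    obtain ⟨i, l, e⟩ := p1.ex m
    exact P.a4 (by rw [show 4 = 2 + 2 from rfl, pow_add, e, p1.mul, p1.one]; clear * - l; decide +kernel +revert))
    (p := 1) (by simp [el, ← pow_add]) (.cons (b := 1) (by simp [el, k]) .nil)
  have p3 := p2.cons (g := 𝐫) (fun m => P.nar (fix_gen (by simpa using ⟨cg_comm (k1 2), cg_comm (k1 4)⟩) m)) (p := 0) (by rw [P.r2, el_zero])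
    (.cons (b := 3) (by simp [el, cg_pow, P.ar, ← pow_mul, ← pow_add])
      (.cons (b := 2) (by simpa [el, cg_pow, P.ar, ← pow_mul] using P.pw 12 4) .nil))
  refine p3.cons (fun m => ?_) (by simp [el, sq]) (.cons ?_ (.cons (by simp [el, k1]) (.cons (by simp [el, k1]) .nil)))
  · obtain ⟨i, l, e⟩ := p3.ex m
    exact P.a4 (by rw [show 4 = 2 * 2 from rfl, pow_mul, sq, sq, e, p3.mul, p3.mul, p3.one]; clear * - l; decide +kernel +revert)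
  · have : 𝐚 * 𝐫 = 𝐫 * 𝐚 ^ 3 := by rw [← P.ar]; simp [cg, mul_assoc]
    simp only [el, cg]
    norm_num
    rw [mul_assoc, inv_mul_eq_iff_eq_mul, ← mul_assoc, this, mul_assoc, ← pow_add, ← pow_add, P.pw (3 + (2 + 4)) 1, pow_one]

theorem exD (m : d ∈ 𝐃) : ∃ i < 16, d = el P.gd i := P.pgd.ex (P.gdD ▸ m)

theorem Qd (hq : q ∈ P.Q) (m : d ∈ 𝐃) : cg d q = d :=
  cg_comm (fix_gen (by simpa using ⟨cg_comm (P.Qa q hq), cg_comm (P.Qr q hq)⟩) m)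

theorem Qq (hq : q ∈ P.Q) (m : x ∈ P.Q) : q * x = x * q :=
  haveI := P.cyc
  congrArg Subtype.val (IsCyclic.commGroup.mul_comm (⟨q, hq⟩ : P.Q) ⟨x, m⟩)

theorem fel (e : P.eps = true) (hq : q ∈ P.Q) : List.Forall₂ (fun h c => cg h (𝐟 * q) = el P.gd c) P.gd [9, 2, 4, 8] := by
  have k : cg 𝐚 (𝐟 * q) = 𝐚 ^ 5 := by rw [← cg_cg, P.fa e, P.Qd hq (pow_mem P.aD _)]
  refine .cons ?_ (.cons ?_ (.cons ?_ (.cons ?_ .nil)))
  · simp [k, gd, el, ← pow_succ']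
  · rw [← cg_cg, P.fr, P.Qr q hq, e2]
  · rw [cg_pow, k, ← pow_mul, e4, P.pw _ 2]
  · rw [cg_pow, k, ← pow_mul, e8, P.pw _ 4]

theorem dec' (m : x ∈ P.S) : ∃ q ∈ P.Q, ∃ d ∈ 𝐃, x = q * d ∨ P.eps = true ∧ x = 𝐟 * q * d := by
  obtain ⟨q, hq, d, hd, e | e⟩ := P.dec x m
  · exact ⟨q, hq, d, hd, .inl e⟩
  cases h : P.eps
  · exact ⟨q, hq, d, hd, .inl (by rw [e, P.f1 h, mul_one])⟩
  obtain ⟨i, -, rfl⟩ := P.exD hd
  exact ⟨_, P.fQ q hq, _, P.elD (hm (mul DD) [9, 2, 4, 8] i), .inr ⟨rfl, by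
    rw [← P.pgd.hom (P.fel h (one_mem _)), e]; simp [cg, mul_assoc]⟩⟩

theorem DS' (m : d ∈ 𝐃) : d ∈ P.S := gen_le.2 (by simp [P.aS, P.rS]) m

theorem nD (m : x ∈ P.S) (hd : d ∈ 𝐃) : cg d x ∈ 𝐃 := by
  obtain ⟨q, hq, u, hu, rfl | ⟨e, rfl⟩⟩ := P.dec' m <;> rw [← cg_cg] <;> refine cg_mem ?_ hu
  · rwa [P.Qd hq hd]
  · obtain ⟨i, -, rfl⟩ := P.exD hd
    rw [P.pgd.hom (P.fel e hq)]; exact P.elD _

theorem nQ (m : x ∈ P.S) (hq : q ∈ P.Q) : cg q x ∈ P.Q := by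
  obtain ⟨u, hu, d, hd, rfl | ⟨e, rfl⟩⟩ := P.dec' m <;> rw [← cg_cg]
  · rw [cg_comm (P.Qd (cg_mem hq hu) hd)]; exact cg_mem hq hu
  · have := cg_mem (P.fQ q hq) hu
    rw [← cg_cg, cg_comm (P.Qd this hd)]; exact this

theorem zD (hd : d ∈ 𝐃) : cg 𝐳 d = 𝐳 := by
  obtain ⟨i, l, rfl⟩ := P.exD hd
  rw [← e8, P.pgd.cg, P.pgd.eq]; clear * - l; decide +kernel +revert

theorem zS (m : x ∈ P.S) : cg 𝐳 x = 𝐳 := by
  obtain ⟨q, hq, u, hu, rfl | ⟨e, rfl⟩⟩ := P.dec' m <;> rw [← cg_cg]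
  · rw [P.Qd hq (pow_mem P.aD _), P.zD hu]
  · rw [← e8, P.pgd.hom (P.fel e hq), (P.pgd.eq _ 8).2 dk, e8, P.zD hu]

theorem cD (m : x ∈ P.S) (h1 : cg 𝐚 x = 𝐚) (h2 : cg 𝐫 x = 𝐫) : ∃ q ∈ P.Q, ∃ u, (u = 1 ∨ u = 𝐳) ∧ x = q * u := by
  obtain ⟨q, hq, u, hu, rfl | ⟨e, rfl⟩⟩ := P.dec' m <;> obtain ⟨i, l, rfl⟩ := P.exD hu <;> rw [← cg_cg] at h1 h2
  · rw [P.Qa q hq, ← e1, P.pgd.cg, P.pgd.eq] at h1
    rw [P.Qr q hq, ← e2, P.pgd.cg, P.pgd.eq] at h2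
    obtain rfl | rfl : i = 0 ∨ i = 8 := by clear * - l h1 h2; decide +kernel +revert
    exacts [⟨q, hq, _, .inl (el_zero _), rfl⟩, ⟨q, hq, _, .inr P.e8, rfl⟩]
  · rw [← e1, P.pgd.hom (P.fel e hq), P.pgd.cg, P.pgd.eq] at h1
    exact absurd h1 (by clear * - l; decide +kernel +revert)

theorem zmem {K : Subgroup G} (h : ∀ x ∈ K, cg x (𝐚 ^ 2) ∈ K) (hd : d ∈ 𝐃) (m : d ∈ K) (e : d ≠ 1) : 𝐳 ∈ K := by
  obtain ⟨i, l, rfl⟩ := P.exD hd
  rw [Ne, P.pgd.one] at e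
  obtain p | p | p | p : EQ 16 i 8 ∨ EQ 16 (mul DD i i) 8 ∨ EQ 16 (mul DD (mul DD i i) (mul DD i i)) 8 ∨ EQ 16 (ck DD i 4) 8 := by
    clear * - l e; decide +kernel +revert
  all_goals rw [← e8, ← (P.pgd.eq _ _).2 p]
  · exact m
  · rw [← P.pgd.mul]; exact mul_mem m m
  · rw [← P.pgd.mul, ← P.pgd.mul]; exact mul_mem (mul_mem m m) (mul_mem m m)
  · rw [← P.pgd.cm, e4]; exact mul_mem (inv_mem m) (h _ m)

variable [Finite G]

/-- A conjugate of a normal subgroup of `S` meeting `D` trivially lies in `Q⟨z⟩`. -/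
theorem nrm {K : Subgroup G} (hn : n ∈ normalizer (P.S : Set G)) (l : K ≤ P.S) (h : ∀ x ∈ P.S, ∀ k ∈ K, cg k x ∈ K)
    (i : ∀ k ∈ K, cg k n ∈ 𝐃 → k = 1) (m : x ∈ K) : ∃ q ∈ P.Q, ∃ u, (u = 1 ∨ u = 𝐳) ∧ cg x n = q * u := by
  have s := cg_mem_norm (l m) hn
  have k : ∀ d ∈ 𝐃, cg d (cg x n) = d := fun d hd => by
    have e := cg_cm x (cg d n⁻¹) n
    rw [cg_inv_cg, i (cm _ _) (mul_mem (inv_mem m) (h _ (cg_mem_norm (P.DS' hd) (inv_mem hn)) _ m)) (by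
      rw [e, show cm (cg x n) d = (cg d (cg x n))⁻¹ * d by simp [cm, cg, mul_assoc]]
      exact mul_mem (inv_mem (P.nD s hd)) hd), cg_one] at e
    exact cg_comm (cm_eq_one.1 e.symm)
  exact P.cD s (k _ P.aD) (k _ P.rD)

theorem fixz (hn : n ∈ normalizer (P.S : Set G)) : cg 𝐳 n = 𝐳 := by
  by_cases i : ∀ k ∈ 𝐃, cg k n ∈ 𝐃 → k = 1
  · obtain ⟨q, hq, u, hu, e⟩ := P.nrm hn (fun _ => P.DS') (fun _ m _ => P.nD m) i P.aD
    obtain ⟨p, hp, v, hv, e'⟩ := P.nrm hn (fun _ => P.DS') (fun _ m _ => P.nD m) i P.rD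
    have k : ∀ u, u = 1 ∨ u = 𝐳 → ∀ x ∈ P.S, cg u x = u := by
      rintro _ (rfl | rfl) x m
      exacts [cg_one _, P.zS m]
    refine (P.nar (cg_inj.1 (?_ : cg _ n = _))).elim
    rw [cg_cg', e, cg_mul, k u hu _ (cg_mem_norm P.rS hn), e', ← cg_cg, cg_eq_iff.2 (P.Qq hq hp), cg_comm (k v hv _ (P.QS hq))]
  push Not at i
  obtain ⟨k, hk, m, e⟩ := i
  have z := mem_cgH.1 (P.zmem (fun x m => by
    rw [mem_cgH, cg_cg']; exact P.nD (cg_mem_norm (pow_mem P.aS _) hn) (mem_cgH.1 m)) hk (mem_cgH.2 m) e)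
  have c : ∀ x ∈ P.S, cg x (cg 𝐳 n) = x := fun x m => by
    rw [← cg_inv_cg x n, ← cg_cg', cg_comm (P.zS (cg_mem_norm m (inv_mem hn)))]
  obtain ⟨q, hq, u, hu, e⟩ := P.cD (P.DS' z) (c _ P.aS) (c _ P.rS)
  rw [e] at z
  rcases hu with rfl | rfl
  · rw [mul_one] at z e
    exact absurd (cg_eq_one.1 (e.trans (P.QD q hq z))) P.a4
  · rw [e, P.QD q hq ((mul_mem_cancel_right (pow_mem P.aD _)).1 z), one_mul]

theorem uniq (ht : orderOf t = 2) (hq : q ∈ P.Q) (h : q * q = 1) : q = 1 ∨ q = t := by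
  classical
  by_contra e
  rw [not_or] at e
  have := Fintype.ofFinite P.Q
  have := P.cyc
  have b1 : t ≠ 1 := fun e => by simp [e] at ht
  have := (Finset.card_le_card (s := {1, ⟨q, hq⟩, ⟨t, P.tQ⟩}) (by
    intro x; simp only [Finset.mem_insert, Finset.mem_singleton, Finset.mem_filter, Finset.mem_univ, true_and]
    rintro (rfl | rfl | rfl)
    exacts [one_pow 2, Subtype.ext ((sq q).trans h), Subtype.ext (ht ▸ pow_orderOf_eq_one t)])).trans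
      (IsCyclic.card_pow_eq_one_le (α := P.Q) two_pos)
  rw [Finset.card_eq_three.2 ⟨_, _, _, fun f => e.1 (congrArg Subtype.val f).symm, fun f => b1 (congrArg Subtype.val f).symm,
    fun f => e.2 (congrArg Subtype.val f), rfl⟩] at this
  omega

theorem tK (ht : orderOf t = 2) {K : Subgroup G} (hq : q ∈ P.Q) (m : q ∈ K) (e : q ≠ 1) : t ∈ K := by
  obtain ⟨k, h⟩ := pow_of_pg P.pS (P.QS hq)
  induction k generalizing q with
  | zero => exact absurd (by simpa using h) e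
  | succ k ih =>
    by_cases c : q * q = 1
    · exact (P.uniq ht hq c).resolve_left e ▸ m
    · exact ih (mul_mem hq hq) (mul_mem m m) c (by rwa [← sq, ← pow_mul, ← pow_succ'])

theorem Qt (ht : orderOf t = 2) (hg : g ∈ normalizer (P.S : Set G)) (e : cg t g = t * 𝐳) (hq : q ∈ P.Q) : q = 1 ∨ q = t := by
  obtain ⟨p, hp, u, hu, e'⟩ := P.nrm hg P.QS (fun _ m _ => P.nQ m) (fun k m c => by_contra fun b => by
    have := P.tK ht m (mem_cgH.2 c) b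
    rw [mem_cgH, e, mul_mem_cancel_right (pow_mem P.aD _)] at this
    simp [P.QD t P.tQ this] at ht) hq
  refine P.uniq ht hq (by_contra fun b => ?_)
  have := P.tK ht (K := P.Q.comap (cgH g)) (mul_mem hq hq) (by
    rw [mem_cgH, cg_mul, e']
    rcases hu with rfl | rfl
    · simpa using mul_mem hp hp
    · rw [mul_assoc, ← mul_assoc 𝐳, cg_eq_iff.1 (P.zS (P.QS hp)), mul_assoc, ← pow_add, P.a8, mul_one]; exact mul_mem hp hp) b
  rw [mem_cgH, e, mul_mem_cancel_left P.tQ] at this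
  exact P.a4 (P.QD _ this (pow_mem P.aD _))

end P0

end Cfsg.Lib.H33
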