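import Cfsg.Agent.Lib.H33.Rd1
import Cfsg.Prelude.Def_TwoFusion

/-! Fusion of `t` for the local data `P0` (helper27). -/

set_option autoImplicit false

namespace Cfsg.Lib.H33

open Subgroup Cfsg.Lib.Transfer

variable {G : Type*} [Group G]

/-- The group on `[f, t, a, r, c, z]` with `f² = t^p`. -/
def DF (p : ℕ) (e : Bool) : Dat := (p, [1, cond e 18 2, 4, 8, 16]) :: (0, [1, 2, 4, 8]) :: DD

namespace P0

variable {t : G} (P : P0 t) {x y q d n g u : G}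

set_option hygiene false in
local notation "𝐚" => P0.a P
set_option hygiene false in
local notation "𝐫" => P0.r P
set_option hygiene false in
local notation "𝐟" => P0.f P
set_option hygiene false in
local notation "𝐳" => P0.a P ^ 4
set_option hygiene false in
local notation "𝐃" => gen [P0.a P, P0.r P]
set_option quotPrecheck false in
local notation "dk" => by clear_aux_decl; clear * -; decide +kernel +revert

theorem tS (m : x ∈ P.S) : cg t x = t := mem_cent.1 (P.le m)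

theorem idx (m : x ∈ P.S) (m' : y ∈ P.S) : ∃ u, (u = x ∨ u = y ∨ u = x * y) ∧ ∃ q ∈ P.Q, ∃ d ∈ 𝐃, u = q * d := by
  obtain ⟨q, hq, d, hd, e | ⟨-, rfl⟩⟩ := P.dec' m
  · exact ⟨_, .inl rfl, q, hq, d, hd, e⟩
  obtain ⟨p, hp, u, hu, e | ⟨-, rfl⟩⟩ := P.dec' m'
  · exact ⟨_, .inr (.inl rfl), p, hp, u, hu, e⟩
  exact ⟨_, .inr (.inr rfl), _, mul_mem (mul_mem P.f2 (P.fQ q hq)) hp, _, mul_mem (P.nD (mul_mem P.fS (P.QS hp)) hd) hu,
    by simp [cg, mul_assoc]⟩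

variable [Finite G]

theorem into {R : Subgroup G} (hR : IsPGroup 2 R) (h : ∀ y ∈ R, cg t y = t) : ∃ x, cg t x = t ∧ ∀ y ∈ R, cg y x ∈ P.S :=
  haveI : Fact (Nat.Prime 2) := ⟨Nat.prime_two⟩
  let ⟨x, m, e⟩ := exists_conj_le_of_not_dvd_relIndex' P.syl hR fun y a => mem_cent.2 (h y a)
  ⟨x⁻¹, mem_cent.1 (inv_mem m), fun y a => by simpa [cg] using conj_le_iff.1 e y a⟩

theorem tos (c : IsConj u t) : ∃ y, cg u y = t ∧ ∀ s ∈ P.S, cg u s = u → cg s y ∈ P.S := by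
  obtain ⟨y, e⟩ := exists_cg c
  obtain ⟨x, a, b⟩ := P.into ((P.pS.to_le (inf_le_left : P.S ⊓ centralizer {u} ≤ _)).map (cgH y)) (by
    rintro _ ⟨s, m, rfl⟩; rw [cgH_apply, ← e, ← cg_cg', mem_cent.1 m.2])
  exact ⟨y * x, by rw [← cg_cg, e, a], fun s m c => cg_cg s y x ▸ b _ ⟨s, ⟨m, mem_cent.2 c⟩, cgH_apply _ _⟩⟩

theorem exn (c : IsConj t u) (h : ∀ s ∈ P.S, cg u s = u) : ∃ n ∈ normalizer (P.S : Set G), cg t n = u :=
  let ⟨_, a, b⟩ := P.tos c.symm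
  ⟨_, inv_mem (mem_norm_of_cg fun s m => b s m (h s m)), cg_symm a⟩

variable (ht : orderOf t = 2)
include ht

theorem tD (m : t ∈ 𝐃) : False := by simp [P.QD t P.tQ m] at ht

omit [Finite G] in
theorem _root_.Cfsg.Lib.H33.sq_cj (c : IsConj t x) : x * x = 1 := by
  obtain ⟨g, rfl⟩ := exists_cg c
  rw [← cg_mul, ← sq, ← ht, pow_orderOf_eq_one, cg_one]

theorem pg5 : PG (t :: P.gd) ((0, [1, 2, 4, 8]) :: DD) 32 :=
  P.pgd.cons (fun m => P.tD ht (P.gdD ▸ m)) ((sq_cj ht (.refl t)).trans (el_zero _).symm)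
    (P.pgd.fa _ rfl fun i l => by rw [P.Qd P.tQ (P.elD _)]; congr 1; revert i; decide)

theorem pg6 (e : P.eps = true) (hq : q ∈ P.Q) {p : ℕ} (h : 𝐟 * q * (𝐟 * q) = el (t :: P.gd) p) :
    PG (𝐟 * q :: t :: P.gd) (DF p true) 64 := by
  have k := P.fel e hq
  refine (P.pg5 ht).cons (fun m => ?_) h (.cons (by simp [el, el_zero, P.tS (mul_mem P.fS (P.QS hq))])
    ((List.forall₂_map_right_iff (f := fun x : ℕ => 2 * x)).2 (k.imp fun _ _ h => h.trans (el_even _ _ _).symm)))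
  obtain ⟨i, l, b⟩ := (P.pg5 ht).ex m
  have := (List.forall₂_cons.1 k).1
  rw [← e1, ← el_even t _ 1, ← el_even t _ 9, b, (P.pg5 ht).cg, (P.pg5 ht).eq] at this
  revert this; clear * - l; decide +kernel +revert

theorem inner (hq : q ∈ P.Q) (hd : d ∈ 𝐃) (c : IsConj t (q * d)) (e : q * d ≠ t) : IsConj t 𝐳 ∨ IsConj t (t * 𝐳) := by
  have s := sq_cj ht c
  rw [mul_assoc, ← mul_assoc d, cg_eq_iff.1 (P.Qd hq hd), mul_assoc, ← mul_assoc] at s
  have s' := P.QD _ (mul_mem hq hq) (eq_inv_of_mul_eq_one_left s ▸ inv_mem (mul_mem hd hd))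
  rw [s', one_mul] at s
  obtain ⟨h, a, b⟩ : ∃ h, cg t h = t ∧ cg d h = 𝐳 := by
    obtain ⟨i, l, rfl⟩ := P.exD hd
    have : ¬ i % 16 = 0 := fun k => by
      rw [(P.pgd.one i).2 k, mul_one] at c e
      rw [(P.uniq ht hq s').resolve_right e, isConj_one_left] at c
      simp [c] at ht
    rw [P.pgd.mul, P.pgd.one] at s
    obtain ⟨k, -, p | p⟩ : ∃ k < 16, EQ 16 (cj DD i k) 8 ∨ EQ 16 (cj DD i k) 2 := by clear * - l s this; decide +kernel +revert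
    · exact ⟨_, P.tS (P.DS' (P.elD k)), by rw [P.pgd.cg, ← e8, P.pgd.eq]; exact p⟩
    · obtain ⟨ρ, r1, -, r2, -⟩ := P.rho 1 (one_mem _)
      exact ⟨_, cg_fix_mul (P.tS (P.DS' (P.elD k))) (cg_symm r1), by rw [← cg_cg, P.pgd.cg, (P.pgd.eq _ _).2 p, e2, cg_symm r2]⟩
  have := c.trans (isConj_cg _ h)
  refine (P.uniq ht hq s').imp (fun k => ?_) fun k => ?_
  · rwa [k, one_mul, b] at this
  · rwa [k, cg_mul, a, b] at this

theorem outer (e : P.eps = true) (hq : q ∈ P.Q) (h : 𝐟 * q * (𝐟 * q) = 1) {i : ℕ} (l : i < 16)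
    (s : 𝐟 * q * el P.gd i * (𝐟 * q * el P.gd i) = 1) : IsConj (𝐟 * q) (𝐟 * q * el P.gd i) := by
  have p := P.pg6 ht e hq (h.trans (el_zero _).symm)
  obtain ⟨ρ, -, r1, r2, -⟩ := P.rho q hq
  obtain ⟨σ, -, s1, s2, -⟩ := P.sig e q hq
  have m1 : Mp p p ρ 33 9 := by simp [Mp, el, gd, cg_mul (𝐟 * q), r1, r2]
  have m2 : Mp p p σ 17 17 := by simpa [Mp, el, gd] using s1
  have m3 : Mp p p σ 16 12 := by simpa [Mp, el, gd] using s2
  have m4 := (Mp.sf p 4 1 33).conj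
  rw [← el_even t, ← el_odd] at s ⊢
  rw [p.mul, p.one] at s
  refine .trans (b := el (𝐟 * q :: t :: P.gd) 1) (by rw [show el _ 1 = 𝐟 * q by simp [el, el_zero]]) ?_
  obtain ⟨k, -, a | a | a⟩ : ∃ k < 64, let u := cj (DF 0 true) (2 * (2 * i) + 1) k
      EQ 64 u 33 ∨ EQ 64 u 9 ∨ EQ 64 u (mul (DF 0 true) 17 (inv (DF 0 true) 12)) := by clear * - l s; decide +kernel +revert
  all_goals refine .trans ?_ (Mp.sf p _ _ _ a).conj.symm
  exacts [m4, m4.trans m1.conj, ((m2.mul m3.inv).l 1).conj]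

theorem st1 (hi : ¬ Cfsg.IsIsolatedInvolution t) : IsConj t 𝐳 ∨ IsConj t (t * 𝐳) := by
  obtain ⟨g, c, e⟩ : ∃ g, Commute t (g * t * g⁻¹) ∧ g * t * g⁻¹ ≠ t := by simpa [Cfsg.IsIsolatedInvolution, ht] using hi
  have c' : IsConj t (g * t * g⁻¹) := isConj_iff.2 ⟨g, rfl⟩
  obtain ⟨h, a, b⟩ := P.into (pg_zpowers (n := 1) ((sq _).trans (sq_cj ht c'))) fun y m =>
    mem_cent.1 (zpowers_le.2 (mem_cent.2 (cg_eq_iff.2 c)) m)
  have e' : cg (g * t * g⁻¹) h ≠ t := fun k => e (cg_inj.1 (k.trans a.symm))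
  have c := c'.trans (isConj_cg _ h)
  obtain ⟨q, hq, d, hd, k | ⟨he, k⟩⟩ := P.dec' (b _ (mem_zpowers _)) <;> rw [k] at c e'
  · exact P.inner ht hq hd c e'
  have s := sq_cj ht c
  have f := mul_mem P.fS (P.QS hq)
  have f2 : 𝐟 * q * (𝐟 * q) = 1 := P.QD _ (by simpa [cg, mul_assoc] using mul_mem (mul_mem P.f2 (P.fQ q hq)) hq) (by
    rw [eq_inv_of_mul_eq_one_left (show 𝐟 * q * (𝐟 * q) * (cg d (𝐟 * q) * d) = 1 by simpa [cg, mul_assoc] using s)]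
    exact inv_mem (mul_mem (P.nD f hd) hd))
  obtain ⟨i, l, rfl⟩ := P.exD hd
  have c' := (P.outer ht he hq f2 l s).trans c.symm
  obtain ⟨y, a, b⟩ := P.tos c'
  have fz := cg_comm (P.zS f)
  have fr : cg (𝐟 * q) 𝐫 = 𝐟 * q := cg_comm (cg_fix_mul P.fr (P.Qr q hq))
  obtain ⟨u, hu, p, hp, d, hd, k⟩ := P.idx (b _ P.rS fr) (b _ (pow_mem P.aS 4) fz)
  obtain ⟨j, l, n, s, e, rfl⟩ : ∃ j < 16, ¬ j % 16 = 0 ∧ mul DD j j % 16 = 0 ∧ cg (𝐟 * q) (el P.gd j) = 𝐟 * q ∧ u = cg (el P.gd j) y := by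
    rcases hu with rfl | rfl | rfl
    exacts [⟨2, by decide, by decide, dk, P.e2 ▸ fr, by rw [e2]⟩, ⟨8, by decide, by decide, dk, P.e8 ▸ fz, by rw [e8]⟩,
      ⟨10, by decide, by decide, dk, by simpa [el, gd] using cg_fix_mul fr fz, by simp [el, gd, cg_mul]⟩]
  refine P.inner ht (mul_mem P.tQ hp) hd ((c'.symm.trans (P.outer ht he hq f2 l ?_)).trans ?_) fun e => n ?_
  · rw [mul_assoc, ← mul_assoc (el _ _), ← cg_eq_iff.1 e, mul_assoc (𝐟 * q), P.pgd.mul, (P.pgd.one _).2 s, mul_one, f2]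
  · exact (isConj_cg _ y).trans (by rw [mul_assoc t, ← k, cg_mul, a])
  · rwa [mul_assoc, mul_eq_left, ← k, cg_eq_one, P.pgd.one] at e

theorem ntz (c : IsConj t 𝐳) : False :=
  let ⟨_, m, e⟩ := P.exn c fun _ => P.zS
  P.tD ht (Set.mem_of_eq_of_mem (cg_inj.1 (e.trans (P.fixz m).symm)) (pow_mem P.aD _))

theorem exg (hi : ¬ Cfsg.IsIsolatedInvolution t) : ∃ g ∈ normalizer (P.S : Set G), g * g ∈ P.S ∧ cg t g = t * 𝐳 := by
  have : Fact (Nat.Prime 2) := ⟨Nat.prime_two⟩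
  obtain ⟨n, m, e⟩ := P.exn ((P.st1 ht hi).resolve_left (P.ntz ht)) fun s m => by rw [cg_mul, P.tS m, P.zS m]
  obtain ⟨k, j, o, p⟩ := exists_odd_pow n
  have c : cg t (n * n) = t := by rw [← cg_cg, e, cg_mul, e, P.fixz m, mul_assoc, ← pow_add, P.a8, mul_one]
  refine ⟨_, pow_mem m k, ?_, (cg_odd c o).trans e⟩
  rw [eq_of_not_dvd_relIndex_of_le P.syl (pg_sup P.pS (n := j) (by rw [(Commute.refl _).mul_pow, p, one_mul])
    (mul_mem (pow_mem m k) (pow_mem m k))) (sup_le P.le (zpowers_le.2 (mem_cent.2 ?_))) le_sup_left]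
  · exact mem_sup_right (mem_zpowers _)
  · rw [← (Commute.refl _).mul_pow]; exact cg_fix_pow c k

variable (hg : g ∈ normalizer (P.S : Set G)) (e : cg t g = t * P.a ^ 4)
include hg e

theorem Sle {K : Subgroup G} (h1 : t ∈ K) (h2 : 𝐚 ∈ K) (h3 : 𝐫 ∈ K) (h4 : P.eps = true → 𝐟 ∈ K) : P.S ≤ K := fun x m => by
  obtain ⟨q, hq, d, hd, k⟩ := P.dec' m
  have a : q ∈ K := by rcases P.Qt ht hg e hq with rfl | rfl; exacts [one_mem _, h1]
  have b : d ∈ K := gen_le.2 (by simp [h2, h3]) hd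
  rcases k with rfl | ⟨c, rfl⟩
  exacts [mul_mem a b, mul_mem (mul_mem (h4 c) a) b]

theorem ff (he : P.eps = true) : 𝐟 * 1 * (𝐟 * 1) = 1 := by
  refine (P.Qt ht hg e (by simpa using P.f2)).resolve_right fun k => ?_
  have p := P.pg6 ht he (one_mem _) (p := 1) (k.trans (by simp [el, el_zero]))
  have s : gen (𝐟 * 1 :: t :: P.gd) = P.S := le_antisymm (gen_le.2 (by simp [gd, P.fS, P.QS P.tQ, P.aS, P.rS, pow_mem]))
    (P.Sle ht hg e (mem_gen (by simp)) (mem_gen (by simp [gd])) (mem_gen (by simp [gd])) fun _ => mem_gen (by simp))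
  obtain ⟨x, l, m1⟩ := Mp.ex p p (cg_mem_norm (el_mem _ 9) (s ▸ hg))
  obtain ⟨y, l', m2⟩ := Mp.ex p p (cg_mem_norm (el_mem _ 4) (s ▸ hg))
  have a := (m1.mul m1).eq (show Mp p p g 2 34 by simpa [Mp, el, gd] using e)
  have b := ((m1.ck m2).mul (m1.ck m2)).eq (show Mp p p g 32 32 by simpa [Mp, el, gd] using P.fixz hg)
  revert b; clear * - l l' a; decide +kernel +revert

end P0

end Cfsg.Lib.H33
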