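import Cfsg.Agent.Lib.H33.Rd2

/-! From the local data `P0` to the configuration `Cfg0` (stub of helper5 for S3139, filled by helper27).
`Rd1`: `N(S)` fixes `z`, and `Q = ⟨t⟩` once `t^g = t z`; `Rd2`: `t ~ t z`, the element `g`, `f² = 1`. -/

set_option autoImplicit false

namespace Cfsg.Lib.H33

open Subgroup

/-- An element of `N(S)` with square in `S` mapping `t` to `t z`. -/
def GD {G : Type*} [Group G] {e : Bool} (C : Cfg0 G e) (g : G) : Prop :=
  g ∈ normalizer (gen C.gs : Set G) ∧ g * g ∈ gen C.gs ∧ Mp C.pg C.pg g 8 40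

section

variable {G G' : Type*} [Group G] [Group G'] (ι : G →* G')

theorem cg_map (x g : G) : ι (cg x g) = cg (ι x) (ι g) := by simp [cg]

theorem el_mapl (gs : List G) (x : ℕ) : el (gs.map ι) x = ι (el gs x) := by
  induction gs generalizing x with
  | nil => simp [el]
  | cons g gs ih => simp [el, ih, apply_ite ι]

theorem PG.mapl {gs : List G} {D : Dat} {N : ℕ} (h : PG gs D N) (i : Function.Injective ι) : PG (gs.map ι) D N := by
  induction gs generalizing D N with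
  | nil => exact ⟨by cases D; exacts [trivial, h.rel], trivial, h.len⟩
  | cons g gs ih =>
    obtain _ | ⟨d, D⟩ := D
    · exact h.rel.elim
    obtain rfl : 2 * 2 ^ gs.length = N := (pow_succ' _ _).symm.trans h.len
    refine (ih h.tail).cons (fun m => h.ind.1 ?_) (by rw [← map_mul, h.rel.1, el_mapl])
      (List.forall₂_map_left_iff.2 (h.rel.2.1.imp fun _ _ e => by rw [← cg_map, e, el_mapl]))
    obtain ⟨x, -, e⟩ := (ih h.tail).ex m
    exact i (e.trans (el_mapl _ _ _)) ▸ el_mem _ _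

theorem P0.mkc [Finite G] [Finite G'] {t g : G} (P : P0 t) (ht : orderOf t = 2) (hg : g ∈ normalizer (P.S : Set G))
    (g2 : g * g ∈ P.S) (gt : cg t g = t * P.a ^ 4) (π : G' →* G) (πι : ∀ x, π (ι x) = x) {F : G'} {e : Bool}
    (p : PG (F :: (t :: P.gd).map ι) (DF 0 e) 64) (hw : ∀ w, w = ι (π w) ∨ (∀ x, cg F x = F) ∧ w = ι (π w) * F) (hF : π F ∈ P.S)
    (hf : P.eps = e) (hσ : e = true → F = ι (P.f * 1)) (cen : e = false → ∀ x, cg F x = F)
    (chi : e = false → ∃ K : Subgroup G', (∀ x y, cm x y ∈ K) ∧ (∀ x, x * x ∈ K) ∧ (∀ x, ι x ∈ K) ∧ F ∉ K ∧ ∀ x, x ∈ K ∨ x * F ∈ K) :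
    ∃ (C : Cfg0 G' e) (g : G'), GD C g ∧ el C.gs 8 = ι t ∧ el C.gs 16 = F := by
  have p := p.sub (cs := [4, 8, 16, 2, 1, 32]) (D' := DS e) (N' := 64) (by cases e <;> decide +kernel) rfl
  rw [show List.map _ _ = [ι P.a, ι P.r, ι (P.a ^ 2), ι t, F, ι (P.a ^ 4)] by simp [el, P0.gd]] at p
  generalize hs : [ι P.a, ι P.r, ι (P.a ^ 2), ι t, F, ι (P.a ^ 4)] = gs at p
  have k : ∀ x, el gs x = el [ι P.a, ι P.r, ι (P.a ^ 2), ι t, F, ι (P.a ^ 4)] x := fun x => by rw [hs]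
  have e8 : el gs 8 = ι t := by simp [k, el]
  have e16 : el gs 16 = F := by simp [k, el]
  have mF : F ∈ gen gs := e16 ▸ el_mem _ _
  have s1 : P.S ≤ (gen gs).comap ι := P.Sle ht hg gt (mem_gen (by simp [← hs])) (mem_gen (by simp [← hs])) (mem_gen (by simp [← hs]))
    fun c => by simpa [hσ (hf ▸ c)] using mF
  have s2 : gen gs ≤ P.S.comap π := gen_le.2 (by simp [← hs, πι, hF, P.aS, P.rS, P.QS P.tQ, pow_mem])
  have s3 : gen [P.a, P.r] ≤ (MS gs 39).comap ι := gen_le.2 (by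
    simpa [k, el] using And.intro (el_mem_ms (gs := gs) (x := 1) (m := 39) rfl) (el_mem_ms (gs := gs) (x := 2) (m := 39) rfl))
  have w1 : ∀ x w, cg x w = cg x (ι (π w)) := fun x w => by
    obtain c | ⟨c, d⟩ := hw w
    · rw [← c]
    · rw [d, ← cg_cg, cg_comm (c _), ← d]
  have w2 : ∀ {y x}, cg (π y) x ∈ P.S → cg y (ι x) ∈ gen gs := fun {y x} m => by
    obtain c | ⟨c, d⟩ := hw y
    · rw [c, ← cg_map]; exact s1 m
    · rw [d, cg_mul, ← cg_map, c]; exact mul_mem (s1 m) mF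
  have w3 : ∀ {w}, cg (el gs 8) w = el gs 8 → cg t (π w) = t := fun a => by simpa [e8, πι, cg_map] using congrArg π a
  have w4 : ∀ {x}, cg t x = t → Mp p p (ι x) 8 8 := fun a => by rw [Mp, e8, ← cg_map, a]
  refine ⟨⟨gs, p, fun R hR a => ?_, fun {w x y} a b => ?_, ?_, fun c => ?_, fun c x => by rw [Mp, e16, cen c], fun c => ?_, fun c => ?_, ?_⟩,
    ι g, ⟨mem_norm_of_cg fun y m => w2 (cg_mem_norm (s2 m) hg), map_mul ι g g ▸ mem_comap.1 (s1 g2), by simpa [Mp, k, el, cg_map] using congrArg ι gt⟩, e8, e16⟩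
  · obtain ⟨x, b, c⟩ := P.into (hR.map π) (by rintro _ ⟨y, m, rfl⟩; exact w3 (a y m))
    exact ⟨_, w4 b, fun y m => w2 (c _ ⟨y, m, rfl⟩)⟩
  · obtain ⟨s, m, d⟩ := P.fus _ (mem_cent.2 (w3 a)) _ (s2 (el_mem _ x)) (by rw [← cg_map, b.e]; exact s2 (el_mem _ _))
    obtain ⟨i, l, c⟩ := p.ex (s1 m)
    obtain ⟨j, l', q, f⟩ := p.ex_ms (by cases e <;> decide +kernel) (s3 d)
    have : (cg (el gs x) (ι s))⁻¹ * cg (el gs x) (ι (π w)) = el gs j := by
      rw [← f, map_mul, map_inv, cg_map, cg_map]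
      obtain c | ⟨c, d⟩ := hw (el gs x)
      · rw [← c]
      · rw [d, cg_mul, cg_mul, c, c, ← d, ← cg_eq_iff.1 (c (cg _ (ι s)))]
        simp [mul_assoc, ← cg_eq_iff.1 (c (cg _ (ι (π w))))]
    rw [← w1, b.e, c, inv_mul_eq_iff_eq_mul, ← el_modN p x, p.cg, ← el_modN p (cj _ _ _), p.mul, p.inj] at this
    have a := (by decide +kernel : ∀ e, ∀ x < 64, ∀ k < 64, cj (DS e) x k % 64 / 8 % 4 = x / 8 % 4) e _ (Nat.mod_lt x (by decide)) i l
    have b := (by decide +kernel : ∀ e, ∀ u < 64, ∀ j < 64, IM 39 j → mul (DS e) u j % 64 / 8 % 4 = u / 8 % 4) e _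
      (Nat.mod_lt (cj (DS e) (x % 64) i) (by decide)) j l' q
    omega
  · obtain ⟨ρ, a, b, c, d⟩ := P.rho 1 (one_mem _)
    refine ⟨ι ρ, w4 a, ?_, by simpa [Mp, k, el, cg_map] using congrArg ι c, ?_⟩
    · cases e
      · rw [Mp, e16, cen rfl]
      · rw [Mp, e16, hσ rfl, ← cg_map, b]
    · simpa [Mp, k, el, cg_map] using congrArg ι (d.trans (cg_eq_iff.1 (P.zS P.rS)))
  · obtain ⟨σ, a, b, d, f⟩ := P.sig (hf.trans c) 1 (one_mem _)
    have u : P.f * 1 * P.a ^ 2 = P.a ^ 2 * (P.f * 1) := (cg_eq_iff.1 (by rw [mul_one, cg_pow, P.fa (hf.trans c), ← pow_mul, P.pw _ 2])).symm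
    rw [u] at b
    refine ⟨ι σ, w4 a, by simpa [Mp, k, el, cg_map, hσ c] using congrArg ι b, by simpa [Mp, k, el, cg_map] using congrArg ι d, ?_⟩
    rw [Mp, ← p.mul]
    simpa [k, el, cg_map] using congrArg ι f
  · obtain ⟨K, a, b, d, f, h⟩ := chi c
    refine ⟨K, a, b, fun x => ?_, e16 ▸ h⟩
    have : ∀ (c : Prop) [Decidable c] y, (if c then ι y else 1) ∈ K := fun c _ y => by split_ifs; exacts [d y, one_mem _]
    simp only [k, el, mul_mem_cancel_left (this _ _), mul_one, mul_mem_cancel_right (this _ _)]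
    split_ifs
    · simp only [f, false_iff]; omega
    · simp only [one_mem, true_iff]; omega
  · exact P.ntz ht (by simpa [k, el, πι] using π.map_isConj c)
  · obtain ⟨σ, a, d, f⟩ := P.sig0
    refine ⟨ι σ, w4 a, by simpa [Mp, k, el, cg_map] using congrArg ι d, ?_⟩
    rw [Mp, ← p.mul]
    simpa [k, el, cg_map] using congrArg ι f

end

theorem red {G : Type*} [Group G] [Finite G] {t : G} (ht : orderOf t = 2) (P : P0 t) (hi : ¬ Cfsg.IsIsolatedInvolution t) :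
    (∃ (C : Cfg0 G true) (g : G), GD C g ∧ el C.gs 8 = t) ∨
      ∃ (C : Cfg0 (G × Multiplicative (ZMod 2)) false) (g : G × Multiplicative (ZMod 2)), GD C g ∧ el C.gs 8 = (t, 1) ∧
        el C.gs 16 = (1, .ofAdd 1) := by
  obtain ⟨g, hg, g2, gt⟩ := P.exg ht hi
  cases e : P.eps
  · have c : ∀ x : G × Multiplicative (ZMod 2), cg (1, .ofAdd 1) x = (1, .ofAdd 1) := fun x => by ext <;> simp [cg]
    have n : ¬ Multiplicative.ofAdd (1 : ZMod 2) = 1 := by decide
    have p := (P.pg5 ht).mapl (.inl G (Multiplicative (ZMod 2))) fun _ _ h => congrArg Prod.fst h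
    refine .inr (P.mkc _ ht hg g2 gt (.fst _ _) (fun _ => rfl) (p.cons (fun m => ?_) (by rw [el_zero]; exact Prod.ext (mul_one _) (by dsimp only [Prod.snd_mul, Prod.snd_one]; decide))
      (p.fa _ rfl fun i l => by rw [cg_comm (c _)]; congr 1; revert i; decide)) (fun ⟨x, u⟩ => ?_) (one_mem _) e nofun (fun _ => c)
      fun _ => ⟨(MonoidHom.snd _ _).ker, fun x y => by simp [cm, cg, mem_prod], fun ⟨x, u⟩ => ?_, fun _ => rfl, n, fun ⟨x, u⟩ => ?_⟩)
    · obtain ⟨i, -, h⟩ := p.ex m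
      exact n (congrArg Prod.snd (h.trans (el_mapl _ _ _)))
    · obtain rfl | rfl : u = 1 ∨ u = .ofAdd 1 := by revert u; decide
      exacts [.inl rfl, .inr ⟨c, by simp⟩]
    · exact (by decide : ∀ u : Multiplicative (ZMod 2), u * u = 1) u
    · exact (by decide : ∀ u : Multiplicative (ZMod 2), u = 1 ∨ u * .ofAdd 1 = 1) u
  · exact .inl ((P.mkc (.id G) ht hg g2 gt (.id G) (fun _ => rfl) (P.pg6 ht e (one_mem _) ((P.ff ht hg gt e).trans (el_zero _).symm))
      (fun _ => .inl rfl) (mul_mem P.fS (one_mem _)) e (fun _ => rfl) nofun nofun).imp fun _ => .imp fun _ h => ⟨h.1, h.2.1⟩)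

end Cfsg.Lib.H33
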