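import Cfsg.Agent.Lib.H33.Fw

/-! Sylow tools in terms of `cg` (helper5). -/

set_option autoImplicit false

namespace Cfsg.Lib.H33

open Cfsg.Lib.Calc Cfsg.Lib.Transfer Subgroup

variable {G : Type*} [Group G]

theorem cg_fix_pow {x g : G} (h : cg x g = x) (n : ℕ) : cg x (g ^ n) = x := by
  induction n with
  | zero => simp
  | succ n ih => rw [pow_succ, ← cg_cg, ih, h]

theorem cg_fix_mul {x g h : G} (a : cg x g = x) (b : cg x h = x) : cg x (g * h) = x := by rw [← cg_cg, a, b]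
theorem cg_fix_inv {x g : G} (a : cg x g = x) : cg x g⁻¹ = x := cg_symm a

theorem mem_cent {x g : G} : g ∈ centralizer {x} ↔ cg x g = x := by
  rw [mem_centralizer_singleton_iff, cg_eq_iff, eq_comm]

/-- An odd power which is a 2-element. -/
theorem exists_odd_pow [Finite G] (g : G) : ∃ m n : ℕ, Odd m ∧ (g ^ m) ^ 2 ^ n = 1 := by
  obtain ⟨n, m, a, b⟩ := Nat.exists_eq_two_pow_mul_odd (orderOf_pos g).ne'
  exact ⟨m, n, a, by rw [← pow_mul, mul_comm, ← b, pow_orderOf_eq_one]⟩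

theorem cg_odd {x g : G} (h : cg x (g * g) = x) {m : ℕ} (hm : Odd m) : cg x (g ^ m) = cg x g := by
  obtain ⟨k, rfl⟩ := hm
  rw [pow_succ, pow_mul, ← cg_cg, cg_fix_pow (by rwa [sq])]

theorem pg_zpowers {g : G} {n : ℕ} (h : g ^ 2 ^ n = 1) : IsPGroup 2 (zpowers g) := by
  rintro ⟨_, k, rfl⟩
  exact ⟨n, Subtype.ext (by simp only [SubmonoidClass.coe_pow, OneMemClass.coe_one]; rw [← zpow_natCast, ← zpow_mul, mul_comm,
    zpow_mul, zpow_natCast, h, one_zpow])⟩

theorem pg_sup {P : Subgroup G} (hP : IsPGroup 2 P) {g : G} {n : ℕ} (h : g ^ 2 ^ n = 1) (hg : g ∈ normalizer (P : Set G)) :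
    IsPGroup 2 (P ⊔ zpowers g : Subgroup G) :=
  haveI : Fact (Nat.Prime 2) := ⟨Nat.prime_two⟩
  hP.to_sup_of_normal_left' (pg_zpowers h) (zpowers_le.2 hg)

theorem pow_of_pg {P : Subgroup G} (hP : IsPGroup 2 P) {g : G} (h : g ∈ P) : ∃ n, g ^ 2 ^ n = 1 :=
  let ⟨n, e⟩ := hP ⟨g, h⟩; ⟨n, congrArg Subtype.val e⟩

theorem pg_sup' {P : Subgroup G} (hP : IsPGroup 2 P) {g : G} (h : g * g ∈ P) (hg : g ∈ normalizer (P : Set G)) :
    IsPGroup 2 (P ⊔ zpowers g : Subgroup G) :=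
  let ⟨n, e⟩ := pow_of_pg hP h; pg_sup hP (n := n + 1) (by rw [pow_succ', pow_mul, sq, e]) hg

theorem mem_sup_zp {P : Subgroup G} {g : G} (h : g * g ∈ P) (hg : g ∈ normalizer (P : Set G)) {x : G}
    (hx : x ∈ P ⊔ zpowers g) : x ∈ P ∨ g⁻¹ * x ∈ P := by
  obtain ⟨_, ⟨k, rfl⟩, n, a, rfl⟩ := exists_mul_of_mem_sup' (zpowers_le.2 hg) hx
  beta_reduce
  rcases Int.even_or_odd' k with ⟨k, rfl | rfl⟩
  · exact .inl (mul_mem (by rw [zpow_mul, zpow_two]; exact zpow_mem h _) a)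
  · refine .inr ?_
    rw [add_comm, zpow_add, zpow_one, mul_assoc, inv_mul_cancel_left, zpow_mul, zpow_two]
    exact mul_mem (zpow_mem h _) a

/-- A 2-subgroup which is not Sylow has a normalising element with square inside. -/
theorem climb [Finite G] {P : Subgroup G} (hP : IsPGroup 2 P) (h : 2 * Nat.card P ∣ Nat.card G) :
    ∃ w ∈ normalizer (P : Set G), w ∉ P ∧ w * w ∈ P := by
  haveI : Fact (Nat.Prime 2) := ⟨Nat.prime_two⟩
  obtain ⟨T, hT⟩ := hP.exists_le_sylow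
  have lt : P < T := hT.lt_of_ne fun e => T.not_dvd_index (by
    rw [← e]
    rw [← P.card_mul_index, mul_comm] at h
    exact Nat.dvd_of_mul_dvd_mul_left Nat.card_pos h)
  obtain ⟨w, ⟨a, b⟩, c⟩ := SetLike.exists_of_lt (lt_inf_normalizer_of_lt T.2 lt)
  obtain ⟨n, e⟩ := pow_of_pg T.2 a
  have : ∃ n, w ^ 2 ^ n ∈ P := ⟨n, e ▸ one_mem _⟩
  classical
  obtain h0 | ⟨k, hk⟩ := (Nat.eq_zero_or_eq_succ_pred (Nat.find this)).imp id fun h => (⟨_, h⟩ : ∃ k, Nat.find this = k + 1)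
  · exact absurd (by simpa [h0] using Nat.find_spec this) c
  · refine ⟨w ^ 2 ^ k, pow_mem b _, Nat.find_min this (by omega), ?_⟩
    have := Nat.find_spec this
    rwa [hk, pow_succ, pow_mul, sq] at this

theorem PG.climb [Finite G] {gs : List G} {D : Dat} {N : ℕ} (h : PG gs D N) (a : 2 * N ∣ Nat.card G) :
    ∃ w ∈ normalizer (gen gs : Set G), w ∉ gen gs ∧ w * w ∈ gen gs := H33.climb h.pgroup (by rwa [h.card])

/-- A Sylow subgroup of `M` normalised by the 2-group `R`, and the Frattini argument. -/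
theorem syl_fr [Finite G] {M R : Subgroup G} (hR : IsPGroup 2 R) (hM : R ≤ normalizer (M : Set G)) :
    ∃ T : Subgroup G, IsPGroup 2 T ∧ R ≤ T ∧ T ≤ M ⊔ R ∧
      ∀ ρ ∈ normalizer (M : Set G), ∃ m ∈ M, ∀ x ∈ T, x ∈ M → cg x (ρ * m) ∈ T := by
  haveI : Fact (Nat.Prime 2) := ⟨Nat.prime_two⟩
  obtain ⟨T, a, b, c, d⟩ := exists_sylowIn_ge hR (le_sup_right : R ≤ M ⊔ R)
  refine ⟨T, c, a, b, fun ρ hρ => ?_⟩
  have e := not_dvd_relIndex_of_le_normalizer d le_sup_left (sup_le le_normalizer hM)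
  obtain ⟨n, p, q⟩ := frattini_argument (T := T ⊓ M) inf_le_right (c.to_le inf_le_left) (by rwa [inf_relIndex_right])
    le_rfl (inv_mem hρ)
  refine ⟨n⁻¹, inv_mem p, fun x u v => ?_⟩
  have := cg_mem_norm (H := T ⊓ M) ⟨u, v⟩ (inv_mem q)
  rw [mul_inv_rev, inv_inv] at this
  exact this.1

theorem norm_inf [Finite G] {H K : Subgroup G} {w : G} (a : w ∈ normalizer (H : Set G)) (b : w ∈ normalizer (K : Set G)) :
    w ∈ normalizer ((H ⊓ K : Subgroup G) : Set G) := mem_norm_of_cg fun _ h => ⟨cg_mem_norm h.1 a, cg_mem_norm h.2 b⟩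

theorem norm_norm [Finite G] {H : Subgroup G} {w : G} (a : w ∈ normalizer (H : Set G)) :
    w ∈ normalizer ((normalizer (H : Set G) : Subgroup G) : Set G) := le_normalizer a

/-- The elements normalising `Z` and centralising `K` modulo `Z`. -/
def rcK (K Z : Subgroup G) : Subgroup G where
  carrier := {y | y ∈ normalizer (Z : Set G) ∧ ∀ x ∈ K, cm x y ∈ Z}
  one_mem' := ⟨one_mem _, by simp [cm]⟩
  mul_mem' := fun a b => ⟨mul_mem a.1 b.1, fun x h => ((rcR x Z).mul_mem ⟨a.1, a.2 x h⟩ ⟨b.1, b.2 x h⟩).2⟩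
  inv_mem' := fun a => ⟨inv_mem a.1, fun x h => ((rcR x Z).inv_mem ⟨a.1, a.2 x h⟩).2⟩

theorem norm_rcK [Finite G] {K Z : Subgroup G} {w : G} (a : w ∈ normalizer (K : Set G)) (b : w ∈ normalizer (Z : Set G)) :
    w ∈ normalizer (rcK K Z : Set G) := mem_norm_of_cg fun y h => ⟨cg_mem h.1 b, fun x hx => by
  rw [← cg_inv_cg x w, ← cg_cm]; exact cg_mem_norm (h.2 _ (cg_mem_norm hx (inv_mem a))) b⟩

theorem ms_zero {gs : List G} {x : G} : x ∈ MS gs 0 ↔ x = 1 := by simp [MS]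

theorem PG.mem_rcK [Finite G] {gs : List G} {D : Dat} {N k z : ℕ} (h : PG gs D N) (a : nmOK D N k z) {y : G}
    (b : y ∈ normalizer (MS gs z : Set G)) (c : ∀ i < N.log2, k.testBit i = true → H33.cm (el gs (2 ^ i)) y ∈ MS gs z) :
    y ∈ rcK (MS gs k) (MS gs z) :=
  ⟨b, fun _ hx => ((ms_le_iff h (H := rcL y (MS gs z))).2 (fun i p q => ⟨h.nm_el (a i p q), c i p q⟩) hx).2⟩

namespace PG

variable {gs : List G} {D : Dat} {N : ℕ}

theorem cons' (h : PG gs D N) {g : G} (hg : g ∉ gen gs) {p : ℕ} {cs : List ℕ} (h1 : g * g = el gs p)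
    (h2 : List.Forall₂ (fun h c => H33.cg h g = el gs c) gs cs) :
    ∃ gs', PG gs' ((p, cs) :: D) (2 * N) ∧ g = el gs' 1 ∧ ∀ x, el gs x = el gs' (2 * x) :=
  ⟨g :: gs, h.cons hg h1 h2, by simp [el, el_zero], fun x => (el_even _ _ _).symm⟩

theorem sub' (h : PG gs D N) (cs : List ℕ) (D' : Dat) (N' : ℕ) (e : subOK D N cs D' = true ∧ 2 ^ cs.length = N') :
    ∃ gs', PG gs' D' N' ∧ ∀ x, el gs' x = el gs (hm (H33.mul D) cs x) :=
  ⟨_, h.sub e.1 e.2, h.el_map cs⟩

theorem fa (h : PG gs D N) {g : G} (cs : List ℕ) (e : 2 ^ cs.length = N)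
    (a : ∀ i < cs.length, H33.cg (el gs (2 ^ i)) g = el gs (cs.getD i 0)) :
    List.Forall₂ (fun h c => H33.cg h g = el gs c) gs cs := by
  have l : gs.length = cs.length := Nat.pow_right_injective le_rfl (h.len.trans e.symm)
  refine List.forall₂_iff_get.2 ⟨l, fun i p q => ?_⟩
  have k : ∀ (l : List G) (i : ℕ) (p : i < l.length), el l (2 ^ i) = l.get ⟨i, p⟩ := by
    intro l
    induction l with
    | nil => simp
    | cons b l ih =>
      rintro (_ | i) p
      · simp [el, el_zero]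
      · rw [pow_succ', el_even, ih i (by simpa using p)]; rfl
  rw [← k, a i q]
  simp [q]

theorem gen_le_iff (h : PG gs D N) {H : Subgroup G} : gen gs ≤ H ↔ ∀ i < N.log2, el gs (2 ^ i) ∈ H := by
  rw [← h.ms_top, ms_le_iff h]
  refine forall₂_congr fun i a => ⟨fun b => b ?_, fun b _ => b⟩
  rw [← h.len, Nat.testBit_two_pow_sub_one]
  simpa [← h.len, Nat.log2_two_pow] using a

theorem mem_of_eq {gs' : List G} {x y : ℕ} (e : el gs' x = el gs y) : el gs' x ∈ gen gs := e ▸ el_mem _ _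

end PG

noncomputable instance (priority := high) decAll' (n : ℕ) (p q : ℕ → Prop) [DecidablePred p] [DecidablePred q] :
    Decidable (∀ i, p i → i < n → q i) :=
  decidable_of_iff (∀ i < n, p i → q i) ⟨fun h i a b => h i b a, fun h i a b => h i b a⟩

/-- Equality of codes. -/
def EQ (N x y : ℕ) : Prop := x % N = y % N

instance decEQ (N x y : ℕ) : Decidable (EQ N x y) := Nat.decEq _ _

theorem EQ.eq {N x y : ℕ} (h : EQ N x y) (a : x < N) (b : y < N := by norm_num) : x = y := by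
  rwa [EQ, Nat.mod_eq_of_lt a, Nat.mod_eq_of_lt b] at h

theorem PG.eq {gs : List G} {D : Dat} {N : ℕ} (h : PG gs D N) (x y : ℕ) : el gs x = el gs y ↔ EQ N x y := h.inj x y

/-- Conjugation by `w` maps the element with code `x` to the element with code `y`. -/
def Mp {gs gs' : List G} {D D' : Dat} {N N' : ℕ} (_ : PG gs D N) (_ : PG gs' D' N') (w : G) (x y : ℕ) : Prop :=
  cg (el gs x) w = el gs' y

namespace Mp

variable {gs gs' gs'' : List G} {D D' D'' : Dat} {N N' N'' : ℕ} {h : PG gs D N} {h' : PG gs' D' N'} {h'' : PG gs'' D'' N''}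
  {w v : G} {x y x' y' u : ℕ}

theorem e (a : Mp h h' w x y) : cg (el gs x) w = el gs' y := a
theorem zero : Mp h h' w 0 0 := by simp [Mp, el_zero]
theorem mul (a : Mp h h' w x y) (b : Mp h h' w x' y') : Mp h h' w (mul D x x') (mul D' y y') := by
  rw [Mp, ← h.mul, ← h'.mul, cg_mul, a, b]
theorem inv (a : Mp h h' w x y) : Mp h h' w (inv D x) (inv D' y) := by
  rw [Mp, ← h.inv, ← h'.inv, cg_inv, a]
theorem cj (a : Mp h h' w x y) (b : Mp h h' w x' y') : Mp h h' w (cj D x x') (cj D' y y') := by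
  rw [Mp, ← h.cg, ← h'.cg, cg_cg', a, b]
theorem ck (a : Mp h h' w x y) (b : Mp h h' w x' y') : Mp h h' w (ck D x x') (ck D' y y') := by
  rw [Mp, ← h.cm, ← h'.cm, cg_cm, a, b]
theorem iff (a : Mp h h' w x y) (b : Mp h h' w x' y') : EQ N x x' ↔ EQ N' y y' := by
  rw [← h.eq, ← h'.eq, ← a.e, ← b.e, cg_inj]
theorem eq (a : Mp h h' w x y) (b : Mp h h' w x' y') (c : EQ N x x' := by clear_aux_decl; clear * -; decide +kernel +revert) : EQ N' y y' := (a.iff b).1 c
theorem ne (a : Mp h h' w x y) (b : Mp h h' w x' y') (c : ¬ EQ N x x' := by clear_aux_decl; clear * -; decide +kernel +revert) : ¬ EQ N' y y' :=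
  fun d => c ((a.iff b).2 d)
theorem cast (a : Mp h h' w x y) (x' y' : ℕ) (c : EQ N x x' ∧ EQ N' y y' := by clear_aux_decl; clear * -; decide +kernel +revert) : Mp h h' w x' y' := by
  rw [Mp, ← (h.eq _ _).2 c.1, ← (h'.eq _ _).2 c.2, a]
theorem l (a : Mp h h' w x y) (x' : ℕ) (c : EQ N x x' := by clear_aux_decl; clear * -; decide +kernel +revert) : Mp h h' w x' y := a.cast _ _ ⟨c, rfl⟩
theorem r (a : Mp h h' w x y) (y' : ℕ) (c : EQ N' y y' := by clear_aux_decl; clear * -; decide +kernel +revert) : Mp h h' w x y' := a.cast _ _ ⟨rfl, c⟩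
theorem trans (a : Mp h h' w x y) (b : Mp h' h'' v y u) : Mp h h'' (w * v) x u := by rw [Mp, ← cg_cg, a, b]
theorem symm (a : Mp h h' w x y) : Mp h' h w⁻¹ y x := cg_symm a
theorem self (h : PG gs D N) (g x : ℕ) : Mp h h (el gs g) x (H33.cj D x g) := h.cg x g
theorem sf (h : PG gs D N) (g x y : ℕ) (c : EQ N (H33.cj D x g) y := by clear_aux_decl; clear * -; decide +kernel +revert) : Mp h h (el gs g) x y :=
  (self h g x).r _ c
theorem tr (a : Mp h h' w x y) (g : ℕ) : Mp h h' (w * el gs' g) x (H33.cj D' y g) := a.trans (self h' g y)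
theorem sq (a : Mp h h' w x y) (c : EQ N (H33.mul D x x) 0 := by clear_aux_decl; clear * -; decide +kernel +revert) : EQ N' (H33.mul D' y y) 0 :=
  (a.mul a).eq zero c
theorem co (a : Mp h h' w x y) (b : Mp h h' w x' y') (c : EQ N (H33.mul D x x') (H33.mul D x' x) := by clear_aux_decl; clear * -; decide +kernel +revert) :
    EQ N' (H33.mul D' y y') (H33.mul D' y' y) := (a.mul b).eq (b.mul a) c
theorem conj (a : Mp h h' w x y) : IsConj (el gs x) (el gs' y) := a.e ▸ isConj_cg _ _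
theorem of_el {g : ℕ} (a : Mp h h (el gs g) x y) : EQ N (H33.cj D x g) y := (self h g x).eq a rfl
theorem odd (a : Mp h h w x y) (b : Mp h h w y x) {m : ℕ} (hm : Odd m) : Mp h h (w ^ m) x y :=
  (cg_odd (a.trans b) hm).trans a
theorem pow (a : Mp h h w x x) (m : ℕ) : Mp h h (w ^ m) x x := cg_fix_pow a m
theorem ex (h : PG gs D N) (h' : PG gs' D' N') (a : cg (el gs x) w ∈ gen gs') : ∃ y < N', Mp h h' w x y := h'.ex a
/-- The conjugating element is itself mapped. -/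
theorem act {n : G} {g : ℕ} (a : Mp h h n x x') (b : Mp h h' w x y) (c : Mp h h' w x' y') (d : cg n w = el gs' g) :
    EQ N' (H33.cj D' y g) y' := by
  rw [← h'.eq, ← h'.cg, ← b.e, ← c.e, ← d, ← cg_cg', a]
theorem cjg {n : G} (a : Mp h h n x x') (b : Mp h h' w x y) (c : Mp h h' w x' y') : Mp h' h' (cg n w) y y' := by
  rw [Mp, ← b.e, ← c.e, ← cg_cg', a]
theorem of_eq {g : ℕ} (a : Mp h h w x y) (b : w = el gs g) : EQ N (H33.cj D x g) y := of_el (b ▸ a)
theorem swap (a : Mp h h w x y) (u : ℕ) (c : EQ N (H33.mul D (H33.inv D y) x) u := by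
    clear_aux_decl; clear * -; decide +kernel +revert) : cg w (el gs x) = w * el gs u := by
  rw [← (h.eq _ _).2 c, ← h.mul, ← h.inv, ← a.e]; simp [cg, mul_assoc]
theorem hom {xs cs : List ℕ} (a : List.Forall₂ (Mp h h' w) xs cs) (i : ℕ) :
    Mp h h' w (hm (H33.mul D) xs i) (hm (H33.mul D') cs i) := by
  rw [Mp, ← h.el_map, h'.hom (by rw [List.forall₂_map_left_iff]; exact a)]

variable [Finite G]

theorem im {m : ℕ} (a : Mp h h w x y) (k : msOK D N m) (hw : w ∈ normalizer (MS gs m : Set G)) :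
    IM m (x % N) ↔ IM m (y % N) := h.img_iff k hw a
theorem exm {m : ℕ} (k : msOK D N m) (hw : w ∈ normalizer (MS gs m : Set G)) (x : ℕ) (hx : IM m x := by clear_aux_decl; clear * -; decide +kernel +revert) :
    ∃ y < N, IM m y ∧ Mp h h w x y := h.img k hw hx
theorem mem {m : ℕ} (a : Mp h h' w x y) (b : IM m y := by clear_aux_decl; clear * -; decide +kernel +revert) : cg (el gs x) w ∈ MS gs' m := a.e ▸ el_mem_ms b

end Mp

end Cfsg.Lib.H33
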